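import Groth.Agent.H14Atlas.Cover

/-!
# The base of frames is locally of finite presentation
-/

set_option autoImplicit false
set_option backward.isDefEq.respectTransparency false
set_option backward.isDefEq.respectTransparency.types false
set_option linter.style.haveILetI false
universe u

open CategoryTheory CategoryTheory.Limits AlgebraicGeometry

namespace Groth.Agent.H14Atlas

variable (ι : Type u) [Fintype ι] [DecidableEq ι]

theorem fg_frameIdeal : (frameIdeal ι).FG := by
  rw [frameIdeal]
  exact Submodule.fg_span (((Set.finite_range _).union (Set.finite_range _)).union (Set.finite_range _))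

noncomputable instance : Algebra (ULift.{u} ℤ) (FrameRing ι) :=
  inferInstanceAs (Algebra (ULift.{u} ℤ) (MvPolynomial (Gen ι) (ULift.{u} ℤ) ⧸ frameIdeal ι))

theorem finitePresentation_frameRing : Algebra.FinitePresentation (ULift.{u} ℤ) (FrameRing ι) :=
  Algebra.FinitePresentation.quotient (fg_frameIdeal ι)

variable {ι}

theorem lfp_frameBase :
    LocallyOfFinitePresentation (terminal.from frameBase.{u}) := by
  rw [show terminal.from frameBase.{u} = Sigma.desc fun n : ULift.{u} ℕ =>
    terminal.from (Spec (CommRingCat.of (FrameRing (FrameIdx n)))) from terminal.hom_ext _ _]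
  refine IsZariskiLocalAtSource.sigmaDesc fun n => ?_
  rw [show terminal.from (Spec (CommRingCat.of (FrameRing (FrameIdx n)))) =
    Spec.map (CommRingCat.ofHom (algebraMap (ULift.{u} ℤ) (FrameRing (FrameIdx n)))) ≫
      terminal.from _ from terminal.hom_ext _ _]
  haveI : IsIso (terminal.from (Spec (CommRingCat.of (ULift.{u} ℤ)))) :=
    isIso_of_isTerminal specULiftZIsTerminal terminalIsTerminal _
  haveI : LocallyOfFinitePresentation
      (Spec.map (CommRingCat.ofHom (algebraMap (ULift.{u} ℤ) (FrameRing (FrameIdx n))))) := by
    rw [HasRingHomProperty.Spec_iff (P := @LocallyOfFinitePresentation)]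
    exact RingHom.finitePresentation_algebraMap.2 (finitePresentation_frameRing _)
  infer_instance

theorem lfp_frameW (S : Scheme.{u}) : LocallyOfFinitePresentation (frameW S).hom := by
  haveI := lfp_frameBase.{u}
  exact inferInstanceAs (LocallyOfFinitePresentation
    (pullback.fst (terminal.from S) (terminal.from frameBase.{u})))

theorem lfp_res {S : Scheme.{u}} {G : Over S} (M : Res (frameRho S) G)
    (h : LocallyOfFinitePresentation M.base.left) : LocallyOfFinitePresentation M.obj.hom := by
  haveI := lfp_frameW S
  rw [← Over.w M.base]
  infer_instance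

end Groth.Agent.H14Atlas
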