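import Groth.Agent.H14Atlas.Cover

/-!
# Points of the space of framed sections over affine schemes
-/

set_option autoImplicit false
set_option backward.isDefEq.respectTransparency false
set_option backward.isDefEq.respectTransparency.types false
set_option linter.style.haveILetI false
universe u

open CategoryTheory CategoryTheory.Limits AlgebraicGeometry Opposite
open scoped TensorProduct

namespace Groth.Agent.H14Atlas

/-- Two algebra structures on a commutative ring commute. -/
theorem smulComm_alg (U R C : Type u) [CommRing U] [CommRing R] [CommRing C] [Algebra U C]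
    [Algebra R C] : SMulCommClass U R C :=
  ⟨fun x r c => by simp only [Algebra.smul_def]; ring⟩

variable {S : Scheme.{u}} {R : Type u} [CommRing R] (ι : Spec (CommRingCat.of R) ⟶ S)

/-- An affine test scheme over an affine chart of `S`. -/
noncomputable abbrev testObj (C : Type u) [CommRing C] [Algebra R C] : Over S :=
  Over.mk (Spec.map (CommRingCat.ofHom (algebraMap R C)) ≫ ι)

/-- The morphism of test schemes of an algebra map. -/
noncomputable def testMap (C D : Type u) [CommRing C] [CommRing D] [Algebra R C] [Algebra R D]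
    [Algebra C D] [IsScalarTower R C D] : testObj ι D ⟶ testObj ι C :=
  Over.homMk (Spec.map (CommRingCat.ofHom (algebraMap C D))) (by
    show Spec.map _ ≫ Spec.map _ ≫ ι = Spec.map _ ≫ ι
    rw [← Spec.map_comp_assoc, ← CommRingCat.ofHom_comp, ← IsScalarTower.algebraMap_eq])

variable (n : ULift.{u} ℕ) (C : Type u) [CommRing C] [Algebra R C]
  [Algebra (FrameRing (FrameIdx n)) C]

/-- The point of the base of frames given by a family of structure constants. -/
noncomputable def aOf : testObj ι C ⟶ frameW S :=
  toFrameW S (Spec.map (CommRingCat.ofHom (algebraMap (FrameRing (FrameIdx n)) C)) ≫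
    Sigma.ι (fun m => Spec (CommRingCat.of (FrameRing (FrameIdx m)))) n)

/-- The framed algebra at a point. -/
abbrev BOf : Type u := C ⊗[FrameRing (FrameIdx n)] FrameAlg (FrameIdx n)

theorem isPullback_BOf : IsPullback
    (Spec.map (CommRingCat.ofHom (algebraMap C (BOf n C))))
    (Spec.map (CommRingCat.ofHom (Algebra.TensorProduct.includeRight :
      FrameAlg (FrameIdx n) →ₐ[FrameRing (FrameIdx n)] BOf n C).toRingHom) ≫
      Sigma.ι (fun m => Spec (CommRingCat.of (FrameAlg (FrameIdx m)))) n)
    (Spec.map (CommRingCat.ofHom (algebraMap (FrameRing (FrameIdx n)) C)) ≫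
      Sigma.ι (fun m => Spec (CommRingCat.of (FrameRing (FrameIdx m)))) n)
    frameCover :=
  (isPullback_SpecMap_of_isPushout _ _ _ _
    (CommRingCat.isPushout_tensorProduct (FrameRing (FrameIdx n)) C (FrameAlg (FrameIdx n)))).paste_vert
    (H13Desc.Eff.isPullback_sigmaMap frameMap n)

theorem isPullback_frameZ : IsPullback (frameRho S).left (pullback.snd (frameCoord S) frameCover)
    (frameCoord S) frameCover :=
  IsPullback.of_hasPullback _ _

theorem isPullback_pull : IsPullback (pullback.fst (aOf ι n C) (frameRho S)).left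
    ((pullback.snd (aOf ι n C) (frameRho S)).left ≫ pullback.snd (frameCoord S) frameCover)
    (Spec.map (CommRingCat.ofHom (algebraMap (FrameRing (FrameIdx n)) C)) ≫
      Sigma.ι (fun m => Spec (CommRingCat.of (FrameRing (FrameIdx m)))) n)
    frameCover := by
  have h := ((IsPullback.of_hasPullback (aOf ι n C) (frameRho S)).map (Over.forget S)).paste_vert
    (isPullback_frameZ (S := S))
  simp only [Over.forget_map, aOf, toFrameW_coord] at h ⊢
  exact h

/-- The affine model of the pulled back cover. -/
noncomputable def zIso :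
    (pullback (aOf ι n C) (frameRho S)).left ≅ Spec (CommRingCat.of (BOf n C)) :=
  (isPullback_pull ι n C).isoIsPullback _ _ (isPullback_BOf n C)

theorem zIso_fst : (zIso ι n C).hom ≫ Spec.map (CommRingCat.ofHom (algebraMap C (BOf n C))) =
    (pullback.fst (aOf ι n C) (frameRho S)).left :=
  IsPullback.isoIsPullback_hom_fst _ _ _ _

theorem zIso_snd : (zIso ι n C).hom ≫
    Spec.map (CommRingCat.ofHom (Algebra.TensorProduct.includeRight :
      FrameAlg (FrameIdx n) →ₐ[FrameRing (FrameIdx n)] BOf n C).toRingHom) ≫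
      Sigma.ι (fun m => Spec (CommRingCat.of (FrameAlg (FrameIdx m)))) n =
    (pullback.snd (aOf ι n C) (frameRho S)).left ≫ pullback.snd (frameCoord S) frameCover :=
  IsPullback.isoIsPullback_hom_snd _ _ _ _

variable [SMulCommClass (FrameRing (FrameIdx n)) R C]
variable {G : Over S} {A : Type u} [CommRing A] [Algebra R A] {j : Spec (CommRingCat.of A) ⟶ G.left}
  (sq : IsPullback j (Spec.map (CommRingCat.ofHom (algebraMap R A))) G.hom ι)
  (M : Res (frameRho S) G)

include sq in
theorem zOf_w (θ : A →ₐ[R] BOf n C) :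
    ((zIso ι n C).hom ≫ Spec.map (CommRingCat.ofHom θ.toRingHom) ≫ j) ≫ G.hom =
      (pullback (aOf ι n C) (frameRho S)).hom := by
  rw [Category.assoc, Category.assoc, sq.w, ← Spec.map_comp_assoc, ← CommRingCat.ofHom_comp]
  rw [AlgHom.toRingHom_eq_coe, AlgHom.comp_algebraMap, IsScalarTower.algebraMap_eq R C (BOf n C),
    CommRingCat.ofHom_comp, Spec.map_comp_assoc, reassoc_of% (zIso_fst ι n C)]
  exact Over.w (pullback.fst (aOf ι n C) (frameRho S))

/-- The point given by a map to the framed algebra. -/
noncomputable def pointOf (θ : A →ₐ[R] BOf n C) : testObj ι C ⟶ M.obj :=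
  M.pt (aOf ι n C) (Over.homMk ((zIso ι n C).hom ≫ Spec.map (CommRingCat.ofHom θ.toRingHom) ≫ j)
    (zOf_w ι n C sq θ))

theorem pointOf_base (θ : A →ₐ[R] BOf n C) : pointOf ι n C sq M θ ≫ M.base = aOf ι n C :=
  M.pt_base _ _

theorem pointOf_coord (θ : A →ₐ[R] BOf n C) :
    (pointOf ι n C sq M θ ≫ M.base).left ≫ frameCoord S =
      Spec.map (CommRingCat.ofHom (algebraMap (FrameRing (FrameIdx n)) C)) ≫
        Sigma.ι (fun m => Spec (CommRingCat.of (FrameRing (FrameIdx m)))) n := by
  rw [pointOf_base, aOf, toFrameW_coord]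

/-- The value of a point at the generic element. -/
theorem ev_pointOf (θ : A →ₐ[R] BOf n C) :
    (M.ev (pointOf ι n C sq M θ) (pullback.fst (aOf ι n C) (frameRho S)) (pullback.snd _ _)
      (by rw [Category.assoc, pointOf_base, pullback.condition])).left =
      (zIso ι n C).hom ≫ Spec.map (CommRingCat.ofHom θ.toRingHom) ≫ j := by
  simp only [pointOf]
  rw [M.ev_pt]
  have h : pullback.lift (pullback.fst (aOf ι n C) (frameRho S)) (pullback.snd _ _)
      pullback.condition = 𝟙 _ := by apply pullback.hom_ext <;> simp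
  rw [h, Category.id_comp]
  rfl

include sq in
/-- Every point over an affine scheme with structure constants of fixed rank comes from a map to
the framed algebra. -/
theorem exists_pointOf (h : testObj ι C ⟶ M.obj)
    (hc : (h ≫ M.base).left ≫ frameCoord S =
      Spec.map (CommRingCat.ofHom (algebraMap (FrameRing (FrameIdx n)) C)) ≫
        Sigma.ι (fun m => Spec (CommRingCat.of (FrameRing (FrameIdx m)))) n) :
    ∃ θ : A →ₐ[R] BOf n C, pointOf ι n C sq M θ = h := by
  have ha : h ≫ M.base = aOf ι n C :=
    frameW_hom_ext S (by rw [hc, aOf, toFrameW_coord])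
  let z := M.ev h (pullback.fst (aOf ι n C) (frameRho S)) (pullback.snd _ _)
    (by rw [Category.assoc, ha, pullback.condition])
  have hw : ((zIso ι n C).inv ≫ z.left) ≫ G.hom =
      Spec.map (CommRingCat.ofHom (algebraMap R (BOf n C))) ≫ ι := by
    rw [Category.assoc, Over.w z, Iso.inv_comp_eq, IsScalarTower.algebraMap_eq R C (BOf n C),
      CommRingCat.ofHom_comp, Spec.map_comp_assoc, reassoc_of% (zIso_fst ι n C)]
    exact (Over.w (pullback.fst (aOf ι n C) (frameRho S))).symm
  let l := sq.lift _ _ hw
  obtain ⟨θ, hθ⟩ := Spec.map_surjective l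
  have hθ' : (θ.hom).comp (algebraMap R A) = algebraMap R (BOf n C) := by
    have h2 : Spec.map (CommRingCat.ofHom (algebraMap R A) ≫ θ) =
        Spec.map (CommRingCat.ofHom (algebraMap R (BOf n C))) := by
      rw [Spec.map_comp, hθ]
      exact sq.lift_snd _ _ _
    exact congrArg CommRingCat.Hom.hom (Spec.map_injective h2)
  refine ⟨⟨θ.hom, fun r => RingHom.congr_fun hθ' r⟩, M.hom_ext (by rw [pointOf_base, ha]) ?_⟩
  intro P p q w
  simp only [pointOf]
  rw [M.ev_pt]
  have hz : (Over.homMk ((zIso ι n C).hom ≫ Spec.map θ ≫ j) (by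
        rw [Category.assoc, Category.assoc, sq.w, ← Spec.map_comp_assoc,
          show CommRingCat.ofHom (algebraMap R A) ≫ θ = CommRingCat.ofHom (algebraMap R (BOf n C)) from
            CommRingCat.hom_ext hθ', IsScalarTower.algebraMap_eq R C (BOf n C),
          CommRingCat.ofHom_comp, Spec.map_comp_assoc, reassoc_of% (zIso_fst ι n C)]
        exact Over.w (pullback.fst (aOf ι n C) (frameRho S))) :
      pullback (aOf ι n C) (frameRho S) ⟶ G) = z := by
    refine Over.OverMorphism.ext ?_
    show (zIso ι n C).hom ≫ Spec.map θ ≫ j = z.left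
    rw [hθ, sq.lift_fst, Iso.hom_inv_id_assoc]
  refine (congrArg (pullback.lift p q _ ≫ ·) hz).trans ?_
  simp only [z]
  rw [M.ev_comp_left]
  exact M.ev_congr (by rw [pullback.lift_fst]) (pullback.lift_snd _ _ _) _

/-- Injectivity of the parametrisation. -/
theorem pointOf_injective {θ θ' : A →ₐ[R] BOf n C}
    (h : pointOf ι n C sq M θ = pointOf ι n C sq M θ') : θ = θ' := by
  have h1 := ev_pointOf ι n C sq M θ
  simp only [h] at h1
  rw [ev_pointOf, cancel_epi] at h1
  have h2 : Spec.map (CommRingCat.ofHom θ'.toRingHom) = Spec.map (CommRingCat.ofHom θ.toRingHom) := by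
    refine sq.hom_ext h1 ?_
    simp only [← Spec.map_comp, ← CommRingCat.ofHom_comp, AlgHom.toRingHom_eq_coe, AlgHom.comp_algebraMap]
  exact AlgHom.coe_ringHom_injective (congrArg CommRingCat.Hom.hom (Spec.map_injective h2)).symm

section Nat

variable (D : Type u) [CommRing D] [Algebra R D] [Algebra (FrameRing (FrameIdx n)) D]
  [SMulCommClass (FrameRing (FrameIdx n)) R D] [Algebra C D] [IsScalarTower R C D]
  [IsScalarTower (FrameRing (FrameIdx n)) C D]

theorem testMap_aOf : testMap ι C D ≫ aOf ι n C = aOf ι n D := by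
  refine frameW_hom_ext S ?_
  rw [Over.comp_left, Category.assoc, aOf, toFrameW_coord, aOf, toFrameW_coord]
  show Spec.map (CommRingCat.ofHom (algebraMap C D)) ≫ _ = _
  rw [← Spec.map_comp_assoc, ← CommRingCat.ofHom_comp, ← IsScalarTower.algebraMap_eq]

/-- The change of coefficients of the framed algebra. -/
noncomputable def BMap : BOf n C →ₐ[R] BOf n D :=
  { (Algebra.TensorProduct.map (IsScalarTower.toAlgHom (FrameRing (FrameIdx n)) C D)
      (AlgHom.id (FrameRing (FrameIdx n)) (FrameAlg (FrameIdx n)))).toRingHom with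
    commutes' := fun r => by
      show Algebra.TensorProduct.map _ _ (algebraMap R C r ⊗ₜ 1) = algebraMap R D r ⊗ₜ 1
      rw [Algebra.TensorProduct.map_tmul, IsScalarTower.toAlgHom_apply,
        ← IsScalarTower.algebraMap_apply]
      rfl }

omit [SMulCommClass (FrameRing (FrameIdx n)) R C] [SMulCommClass (FrameRing (FrameIdx n)) R D] in
theorem map_tmul_one (c : C) :
    Algebra.TensorProduct.map (IsScalarTower.toAlgHom (FrameRing (FrameIdx n)) C D)
      (AlgHom.id (FrameRing (FrameIdx n)) (FrameAlg (FrameIdx n))) (c ⊗ₜ 1) = algebraMap C D c ⊗ₜ 1 := by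
  simp

theorem BMap_tmul (c : C) (x : FrameAlg (FrameIdx n)) :
    BMap (R := R) n C D (c ⊗ₜ x) = algebraMap C D c ⊗ₜ x := by
  show Algebra.TensorProduct.map (IsScalarTower.toAlgHom (FrameRing (FrameIdx n)) C D)
    (AlgHom.id (FrameRing (FrameIdx n)) (FrameAlg (FrameIdx n))) (c ⊗ₜ x) = _
  simp

theorem BMap_algebraMap (c : C) :
    BMap (R := R) n C D (algebraMap C (BOf n C) c) = algebraMap D (BOf n D) (algebraMap C D c) :=
  map_tmul_one n C D c

attribute [local irreducible] BMap

theorem zIso_natural {P : Over S} (l : P ⟶ pullback (aOf ι n C) (frameRho S))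
    (l' : P ⟶ pullback (aOf ι n D) (frameRho S))
    (h₁ : l ≫ pullback.fst _ _ = (l' ≫ pullback.fst _ _) ≫ testMap ι C D)
    (h₂ : l ≫ pullback.snd _ _ = l' ≫ pullback.snd _ _) :
    l.left ≫ (zIso ι n C).hom =
      l'.left ≫ (zIso ι n D).hom ≫ Spec.map (CommRingCat.ofHom (BMap (R := R) n C D).toRingHom) := by
  refine (isPullback_BOf n C).hom_ext ?_ ?_
  · simp only [Category.assoc, zIso_fst]
    rw [← Spec.map_comp, ← CommRingCat.ofHom_comp,
      show ((BMap (R := R) n C D).toRingHom).comp (algebraMap C (BOf n C)) =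
        (algebraMap D (BOf n D)).comp (algebraMap C D) from
          RingHom.ext fun c => BMap_algebraMap n C D c,
      CommRingCat.ofHom_comp, Spec.map_comp, reassoc_of% (zIso_fst ι n D)]
    exact (congrArg (fun k => k.left) h₁).trans (Category.assoc _ _ _)
  · simp only [Category.assoc, zIso_snd]
    rw [← Spec.map_comp_assoc, ← CommRingCat.ofHom_comp,
      show ((BMap (R := R) n C D).toRingHom).comp (Algebra.TensorProduct.includeRight :
          FrameAlg (FrameIdx n) →ₐ[FrameRing (FrameIdx n)] BOf n C).toRingHom =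
        (Algebra.TensorProduct.includeRight :
          FrameAlg (FrameIdx n) →ₐ[FrameRing (FrameIdx n)] BOf n D).toRingHom from
          RingHom.ext fun c => (BMap_tmul n C D 1 c).trans (by rw [map_one]; rfl),
      zIso_snd, ← Category.assoc, ← Category.assoc]
    exact congrArg (fun k => k.left ≫ pullback.snd (frameCoord S) frameCover) h₂

/-- Naturality of the parametrisation. -/
theorem testMap_pointOf (θ : A →ₐ[R] BOf n C) :
    testMap ι C D ≫ pointOf ι n C sq M θ = pointOf ι n D sq M ((BMap (R := R) n C D).comp θ) := by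
  refine M.hom_ext (by rw [Category.assoc, pointOf_base, pointOf_base, testMap_aOf]) fun {P} p q w => ?_
  rw [M.ev_comp_point]
  simp only [pointOf]
  rw [M.ev_pt, M.ev_pt]
  have wC : (p ≫ testMap ι C D) ≫ aOf ι n C = q ≫ frameRho S := by
    rw [← w, Category.assoc, Category.assoc, Category.assoc, pointOf_base]
  have wD : p ≫ aOf ι n D = q ≫ frameRho S := by
    rw [← wC, Category.assoc, testMap_aOf]
  have key := zIso_natural ι n C D (pullback.lift _ _ wC) (pullback.lift _ _ wD)
    (by rw [pullback.lift_fst, pullback.lift_fst]) (by rw [pullback.lift_snd, pullback.lift_snd])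
  refine Over.OverMorphism.ext ?_
  have e : CommRingCat.ofHom ((BMap (R := R) n C D).comp θ).toRingHom =
      CommRingCat.ofHom θ.toRingHom ≫ CommRingCat.ofHom (BMap (R := R) n C D).toRingHom := rfl
  refine Eq.trans (congrArg (· ≫ Spec.map (CommRingCat.ofHom θ.toRingHom) ≫ j) key |> fun h =>
    (Category.assoc _ _ _).symm.trans h) ?_
  simp only [Category.assoc]
  rw [← Spec.map_comp_assoc, ← e]
  rfl

end Nat

end Groth.Agent.H14Atlas
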