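import Groth.Agent.H14Atlas.Saturate
import Groth.Agent.H14Quot.DiagSmooth

/-!
# The classifying stack of a flat affine group of finite presentation is algebraic
-/

set_option autoImplicit false
set_option backward.isDefEq.respectTransparency false
set_option backward.isDefEq.respectTransparency.types false
set_option linter.style.haveILetI false
universe u

open CategoryTheory CategoryTheory.Limits AlgebraicGeometry MonoidalCategory CartesianMonoidalCategory
open AlgSt
open AlgSp (yon)
open scoped CategoryTheory.MonObj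

namespace Groth.Agent.H14Atlas

open H14Fib H14Stk H14AlgSt H12AlgSp H14Quot

local notation "K₀" => Scheme.fppfPrecoverage

variable {S : Scheme.{u}} (G : Over S) [GrpObj G] [IsAffineHom G.hom] [Flat G.hom]
  [LocallyOfFinitePresentation G.hom]

theorem repByAlgSp1_diag_BG :
    RepByAlgSp1 (FibCat.diag (FibCat.toSelf (BG K₀ G))) :=
  repByAlgSp1_of_with (repWith_diag_affine (aX := trivAction G) le_rfl inferInstance inferInstance
    inferInstance (inferInstanceAs (IsAffineHom (pullback.diagonal (𝟙 S)))))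

/-- An object whose torsor is smooth and surjective over the base gives a smooth atlas. -/
theorem hasAtlas_BG_of_obj (A : (BG K₀ G).obj) [Smooth A.P.hom] [Surjective A.P.hom] :
    HasAtlas (AlgSp.LocP @Smooth) (BG K₀ G) := by
  have hst : Stk.IsStack (QuotSh.J K₀ S) (BG K₀ G) := isStack_quotSt le_rfl inferInstance
  have := isFibered_of_fibGrpd hst.1
  obtain ⟨x, j₀, -, -⟩ := exists_fromOver (U := A.base) (x := A) rfl
  have hx1 : RepByAlgSp1 x :=
    repByAlgSp1_of_diag hst.1 (repByAlgSp1_diag_BG G) (repByAlgSp_overCat A.base) x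
  let P : Over S := (top x).P
  let E : AlgSt.ofSch P ⥤ᵇ FibCat.fp (atlas K₀ G (trivAction G)) x :=
    BasedFunctor.comp (BasedFunctor.comp (toOverCat P) (ptFun x))
      (fpSwap x (atlas K₀ G (trivAction G)))
  have hE : FibCat.IsEquivOver E :=
    isEquivOver_comp (isEquivOver_comp (toOverCat_isEquivOver _) (ptFun_isEquivOver x))
      (fpSwap_isEquivOver _ _)
  let ej : (top x).P ≅ A.P :=
    { hom := j₀.hom.top
      inv := j₀.inv.top
      hom_inv_id := congrArg (fun k => k.top) j₀.hom_inv_id
      inv_hom_id := congrArg (fun k => k.top) j₀.inv_hom_id }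
  have : IsIso ej.hom.left := ⟨⟨ej.inv.left, congrArg (fun k => k.left) ej.hom_inv_id,
    congrArg (fun k => k.left) ej.inv_hom_id⟩⟩
  have hP : Smooth P.hom := by
    rw [← Over.w ej.hom]
    infer_instance
  have hPs : Surjective P.hom := by
    rw [← Over.w ej.hom]
    infer_instance
  let t : P ⟶ 𝟙_ (Over S) := toUnit P
  have et : t.left = P.hom := (Category.comp_id _).symm.trans (Over.w t)
  have h1 : spMapOfOver (BasedFunctor.comp E
      (FibCat.fpFst (atlas K₀ G (trivAction G)) x)) = (yon S).map t := by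
    have hm := ((yon S).map_preimage (spMapOfOver (BasedFunctor.comp E
      (FibCat.fpFst (atlas K₀ G (trivAction G)) x)))).symm
    rw [hm]
    exact congrArg (yon S).map (toUnit_unique _ _)
  refine ⟨A.base, x, ?_, ?_⟩
  · refine repWith_of_fppf (localFppf_of_fpqc (S10542.result S)) (sourceIsoInv_locP _) hx1
      (w := atlas K₀ G (trivAction G))
      (repWith_atlas_locP @Flat etLocal_flat le_rfl inferInstance)
      (repWith_atlas_locP @LocallyOfFinitePresentation etLocal_lfp le_rfl inferInstance)
      (repWith_atlas_surjective le_rfl) ?_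
    refine repWith_fpFst_of_data (baseStable_locP etLocal_smooth) (atlas K₀ G (trivAction G))
      (G := ⟨(yon S).obj P, AlgSp.IsAlgSpace.yon_obj P⟩) (e := E) hE ?_
    rw [h1]
    refine (locP_yon_iff etLocal_smooth t).2 ?_
    rw [et]
    exact hP
  · have hF : RepByAlgSpWith AlgSp.IsSurjectiveMor
        (FibCat.fpFst (atlas K₀ G (trivAction G)) x) := by
      refine repWith_fpFst_of_data baseStable_surj (atlas K₀ G (trivAction G))
        (G := ⟨(yon S).obj P, AlgSp.IsAlgSpace.yon_obj P⟩) (e := E) hE ?_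
      rw [h1]
      exact surjective_map_of_repWith le_rfl ((AlgSp.repWith_yon_map_iff @Surjective t).2 (et ▸ hPs))
    refine repWith_surjective_of_points (fibGrpd_overCat A.base) hst.1 hx1 fun q => ?_
    obtain ⟨p, rfl⟩ := surjective_of_repWith hst.1 (repWith_atlas_surjective (G := G)
      (aX := trivAction G) le_rfl) q
    obtain ⟨w, rfl⟩ := surjective_of_repWith (fibGrpd_overCat _) hF p
    refine ⟨AlgSt.Points.map (FibCat.fpSnd (atlas K₀ G (trivAction G)) x) w, ?_⟩
    rw [← points_map_comp, ← points_map_iso (FibCat.fpIso (atlas K₀ G (trivAction G)) x),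
      points_map_comp]

/-- A torsor with smooth total space covering the base. -/
theorem exists_smooth_obj :
    ∃ A : (BG K₀ G).obj, Smooth A.P.hom ∧ Surjective A.P.hom := by
  obtain ⟨⟨M₂⟩, ⟨M₃⟩, M, -, hM⟩ := exists_res_triple G
  haveI := lfp_res M (hM inferInstance)
  let W := smoothImage M M₂ M₃
  let V : Over S := Over.mk (W.ι ≫ (W₀ M₂ M₃).hom)
  let f : V ⟶ (cocTorsor M M₂ M₃).base := Over.homMk W.ι rfl
  let A : (BG K₀ G).obj := pullObj (cocTorsor M M₂ M₃) f
  have sq : IsPullback (pullback.fst (cocTorsor M M₂ M₃).π f).left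
      (pullback.snd (cocTorsor M M₂ M₃).π f).left (toW₀ M M₂ M₃).left W.ι :=
    (IsPullback.of_hasPullback (cocTorsor M M₂ M₃).π f).map (Over.forget S)
  let g : A.P.left ⟶ M.obj.left := (pullback.fst (cocTorsor M M₂ M₃).π f).left
  haveI : IsOpenImmersion g := MorphismProperty.of_isPullback sq.flip inferInstance
  have hg : g ≫ M.obj.hom = A.P.hom := Over.w (pullback.fst (cocTorsor M M₂ M₃).π f)
  refine ⟨A, ?_, ?_⟩
  · rw [← hg, ← Scheme.Hom.smoothLocus_eq_top_iff, eq_top_iff]
    intro a _
    rw [← Scheme.Hom.preimage_smoothLocus_eq]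
    refine preimage_smoothImage M M₂ M₃ ?_
    show (g ≫ (toW₀ M M₂ M₃).left) a ∈ W
    rw [sq.w]
    exact ((pullback.snd (cocTorsor M M₂ M₃).π f).left a).2
  · refine ⟨fun s => ?_⟩
    obtain ⟨m, hm, rfl⟩ := exists_smooth_point M s
    obtain ⟨a, ha, -⟩ := Scheme.exists_preimage_of_isPullback sq m
      (⟨_, Set.mem_image_of_mem _ hm⟩ : W) rfl
    refine ⟨a, ?_⟩
    rw [← hg, Scheme.Hom.comp_apply]
    exact congrArg M.obj.hom ha

theorem hasAtlas_BG : HasAtlas (AlgSp.LocP @Smooth) (BG K₀ G) := by
  obtain ⟨A, h₁, h₂⟩ := exists_smooth_obj G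
  exact hasAtlas_BG_of_obj G A

/-- The classifying stack is algebraic. -/
theorem isAlgStack_BG : IsAlgStack K₀ (BG K₀ G) :=
  ⟨isStack_quotSt le_rfl inferInstance, repByAlgSp1_diag_BG G, hasAtlas_BG G⟩

end Groth.Agent.H14Atlas
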