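import Groth.Agent.H14Atlas.Saturate
import Groth.Agent.H14Gerbe.Retract
import Groth.Agent.H13AlgSp.FppfSource
import Groth.Agent.H14Quot.DiagSmooth

/-!
# A group whose classifying stack has a smooth atlas is flat and locally of finite presentation
-/

set_option autoImplicit false
set_option backward.isDefEq.respectTransparency false
set_option backward.isDefEq.respectTransparency.types false
set_option linter.style.haveILetI false
universe u

open CategoryTheory CategoryTheory.Limits AlgebraicGeometry MonoidalCategory CartesianMonoidalCategory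
open AlgSt
open AlgSp (yon)
open scoped CategoryTheory.MonObj

namespace Groth.Agent.H14Atlas

open H14Fib H14Stk H14AlgSt H12AlgSp H14Quot

local notation "K₀" => Scheme.fppfPrecoverage

variable {S : Scheme.{u}} (G : Over S) [GrpObj G]

/-- A torsor with smooth surjective total space makes the group flat and locally of finite
presentation. -/
theorem flat_lfp_of_obj (A : (BG K₀ G).obj) [Smooth A.P.hom] [Surjective A.P.hom] :
    Flat G.hom ∧ LocallyOfFinitePresentation G.hom := by
  obtain ⟨R, hR, hs⟩ := A.loc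
  obtain ⟨κ, Z, g, rfl⟩ := Presieve.exists_eq_ofArrows R
  replace hR := (Scheme.ofArrows_mem_precoverage_iff _).1 hR
  obtain ⟨hcov, hmor⟩ := hR
  choose i hi using hcov
  let T : A.base.left → Over S := fun a => Over.mk (g (i a) ≫ A.base.hom)
  let c : ∀ a, T a ⟶ A.base := fun a => Over.homMk (g (i a)) rfl
  have key : ∀ a, ∃ σ : T a ⟶ A.P, σ ≫ A.π = c a := fun a => by
    obtain ⟨s, hsg⟩ := hs (g (i a)) ⟨i a⟩
    change s ≫ A.π.left = g (i a) at hsg
    exact ⟨Over.homMk s (by
      change s ≫ A.P.hom = g (i a) ≫ A.base.hom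
      rw [← hsg, Category.assoc, Over.w A.π]), Over.OverMorphism.ext hsg⟩
  choose σ hσ using key
  have hc : ∀ a, Flat (c a).left ∧ LocallyOfFinitePresentation (c a).left :=
    fun a => ⟨(hmor (i a)).1, (hmor (i a)).2⟩
  have sq : ∀ a, IsPullback ((G ◁ σ a) ≫ A.act.act).left (snd G (T a)).left A.π.left (c a).left :=
    fun a => by
      have h := exists_isPullback_of_sec A (σ a)
      rwa [hσ a] at h
  have htot : ∀ a, Flat (G ⊗ T a).hom ∧ LocallyOfFinitePresentation (G ⊗ T a).hom := fun a => by
    haveI : Flat ((G ◁ σ a) ≫ A.act.act).left := MorphismProperty.of_isPullback (sq a).flip (hc a).1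
    haveI : LocallyOfFinitePresentation ((G ◁ σ a) ≫ A.act.act).left :=
      MorphismProperty.of_isPullback (sq a).flip (hc a).2
    rw [← Over.w ((G ◁ σ a) ≫ A.act.act)]
    exact ⟨inferInstance, inferInstance⟩
  have hT : ∀ a, Flat (T a).hom ∧ LocallyOfFinitePresentation (T a).hom := fun a => by
    obtain ⟨h1, h2⟩ := htot a
    let j : T a ⟶ G ⊗ T a := lift 1 (𝟙 _)
    have e : j.left ≫ (snd G (T a)).left = 𝟙 (T a).left := by
      rw [← Over.comp_left, lift_snd]
      rfl
    exact ⟨H14Gerbe.flat_of_factor_scheme j.left (snd G (T a)).left (𝟙 _) (T a).hom e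
        (hg := by rw [Over.w]; exact h1),
      H14Gerbe.lfp_of_factor_scheme j.left (snd G (T a)).left (𝟙 _) (T a).hom e
        (hg := by rw [Over.w]; exact h2)⟩
  have hfst : ∀ a, Flat (fst G (T a)).left ∧ LocallyOfFinitePresentation (fst G (T a)).left :=
    fun a => ⟨MorphismProperty.of_isPullback (isPullback_fst_left G (T a)) (hT a).1,
      MorphismProperty.of_isPullback (isPullback_fst_left G (T a)) (hT a).2⟩
  have hjs : ∀ x : G.left, ∃ a, x ∈ Set.range (fst G (T a)).left := fun x => by
    obtain ⟨p, hp⟩ := A.P.hom.surjective (G.hom x)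
    obtain ⟨t, ht⟩ := hi (A.π.left p)
    refine ⟨A.π.left p, ?_⟩
    obtain ⟨z, -, hz⟩ := Scheme.exists_preimage_of_isPullback (isPullback_fst_left G (T (A.π.left p)))
      t x (by
        show (g (i (A.π.left p)) ≫ A.base.hom) t = G.hom x
        refine (Scheme.Hom.comp_apply _ _ t).trans ((congrArg A.base.hom ht).trans ?_)
        rw [← hp, ← Scheme.Hom.comp_apply, Over.w A.π])
    exact ⟨z, hz⟩
  refine ⟨H13AlgSp.flat_of_jointly_surjective G.hom (fun a => (G ⊗ T a).left)
      (fun a => (fst G (T a)).left) hjs (fun a => (hfst a).1) (fun a => ?_),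
    H13AlgSp.lfp_of_jointly_surjective G.hom (fun a => (G ⊗ T a).left)
      (fun a => (fst G (T a)).left) hjs (fun a => hfst a) (fun a => ?_)⟩
  · rw [Over.w]
    exact (htot a).1
  · rw [Over.w]
    exact (htot a).2

/-- A smooth atlas of the classifying stack gives a torsor with smooth surjective total space. -/
theorem exists_obj_of_hasAtlas (h : HasAtlas (AlgSp.LocP @Smooth) (BG K₀ G)) :
    ∃ A : (BG K₀ G).obj, Smooth A.P.hom ∧ Surjective A.P.hom := by
  obtain ⟨U, x, hxs, hxsurj⟩ := h
  let P : Over S := (top x).P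
  let E : AlgSt.ofSch P ⥤ᵇ FibCat.fp (atlas K₀ G (trivAction G)) x :=
    BasedFunctor.comp (BasedFunctor.comp (toOverCat P) (ptFun x))
      (fpSwap x (atlas K₀ G (trivAction G)))
  have hE : FibCat.IsEquivOver E :=
    isEquivOver_comp (isEquivOver_comp (toOverCat_isEquivOver _) (ptFun_isEquivOver x))
      (fpSwap_isEquivOver _ _)
  let t : P ⟶ 𝟙_ (Over S) := toUnit P
  have et : t.left = P.hom := (Category.comp_id _).symm.trans (Over.w t)
  obtain ⟨k⟩ := spMapOfOver_eq (BasedFunctor.comp E (FibCat.fpFst (atlas K₀ G (trivAction G)) x))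
  have h1 : spMapOfOver (BasedFunctor.comp E
      (FibCat.fpFst (atlas K₀ G (trivAction G)) x)) = (yon S).map t := by
    have hm := ((yon S).map_preimage (spMapOfOver (BasedFunctor.comp E
      (FibCat.fpFst (atlas K₀ G (trivAction G)) x)))).symm
    rw [hm]
    exact congrArg (yon S).map (toUnit_unique _ _)
  have hsm := prop_of_repData (G := ⟨(yon S).obj P, AlgSp.IsAlgSpace.yon_obj P⟩)
    (sourceIsoInv_locP _) (hxs _ (atlas K₀ G (trivAction G))) hE k
  have hsu := prop_of_repData (G := ⟨(yon S).obj P, AlgSp.IsAlgSpace.yon_obj P⟩)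
    sourceIsoInv_surjective (hxsurj _ (atlas K₀ G (trivAction G))) hE k
  rw [h1] at hsm hsu
  exact ⟨top x, et ▸ (locP_yon_iff etLocal_smooth t).1 hsm,
    et ▸ surjective_left_of_map t hsu⟩

theorem flat_lfp_of_hasAtlas (h : HasAtlas (AlgSp.LocP @Smooth) (BG K₀ G)) :
    Flat G.hom ∧ LocallyOfFinitePresentation G.hom := by
  obtain ⟨A, h1, h2⟩ := exists_obj_of_hasAtlas G h
  exact flat_lfp_of_obj G A

end Groth.Agent.H14Atlas
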