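import Groth.Agent.H14Atlas.Res
import Groth.Agent.H8Props.WeilRes.MorS
import Groth.Agent.H21Weil.Rep

/-!
# Sections along finite locally free covers with affine values are representable
-/

set_option autoImplicit false
set_option backward.isDefEq.respectTransparency false
set_option backward.isDefEq.respectTransparency.types false
universe u

open CategoryTheory CategoryTheory.Limits AlgebraicGeometry Opposite

namespace Groth.Agent.H14Atlas

variable {S : Scheme.{u}} {Z W : Over S} (ρ : Z ⟶ W) (Y : Over S)

/-- Sections along a finite locally free cover with values in an affine scheme are representable. -/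
theorem exists_res [IsFinite ρ.left] [Flat ρ.left] [LocallyOfFinitePresentation ρ.left]
    [IsAffineHom Y.hom] :
    ∃ M : Res ρ Y, IsAffineHom M.base.left ∧
      (LocallyOfFinitePresentation Y.hom → LocallyOfFinitePresentation M.base.left) := by
  let Yw := pullback.snd Y.hom W.hom
  haveI : IsAffineHom (Over.mk Yw : Over W.left).hom :=
    MorphismProperty.pullback_snd (P := @IsAffineHom) Y.hom W.hom inferInstance
  obtain ⟨R, u, hR, hw⟩ := H21Weil.exists_isWeil_pullback (s := ρ.left) (Over.mk Yw : Over W.left)
  let adj := Over.mapPullbackAdj ρ.left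
  let E : (Flatn.morS ρ.left Yw).RepresentableBy R :=
    { homEquiv := fun {T} => (Equiv.ofBijective _ (hw T)).trans (adj.homEquiv _ _).symm
      homEquiv_comp := fun {T T'} f g => by
        show (adj.homEquiv _ _).symm ((Over.pullback ρ.left).map (f ≫ g) ≫ u) =
          (Over.map ρ.left).map ((Over.pullback ρ.left).map f) ≫
            (adj.homEquiv _ _).symm ((Over.pullback ρ.left).map g ≫ u)
        rw [Functor.map_comp, Category.assoc, Adjunction.homEquiv_naturality_left_symm] }
  have hlfp : LocallyOfFinitePresentation Y.hom → LocallyOfFinitePresentation R.hom := fun hY => by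
    haveI hYw : LocallyOfFinitePresentation Yw := inferInstance
    haveI : IsAffineHom ((Over.pullback ρ.left).obj (Over.mk Yw)).hom :=
      MorphismProperty.pullback_snd (P := @IsAffineHom) Yw ρ.left this
    exact hw.props.2.2 (inferInstanceAs (LocallyOfFinitePresentation (pullback.snd Yw ρ.left)))
  let obj : Over S := Over.mk (R.hom ≫ W.hom)
  let base : obj ⟶ W := Over.homMk R.hom rfl
  have sq₀ : IsPullback (pullback.fst base ρ).left (pullback.snd base ρ).left R.hom ρ.left :=
    (IsPullback.of_hasPullback base ρ).map (Over.forget S)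
  let u₀ := E.homEquiv (𝟙 R)
  have hu₀ : u₀.left ≫ Yw = pullback.snd R.hom ρ.left ≫ ρ.left := Over.w u₀
  let val : pullback base ρ ⟶ Y := Over.homMk
    (sq₀.isoPullback.hom ≫ u₀.left ≫ pullback.fst Y.hom W.hom) (by
      simp only [Category.assoc, pullback.condition]
      rw [reassoc_of% hu₀, Over.w ρ, sq₀.isoPullback_hom_snd_assoc]
      exact Over.w (pullback.snd base ρ))
  have key : ∀ {T : Over S} (h : T ⟶ obj) (a : T ⟶ W) (e : h ≫ base = a)
      (h₀ : Over.mk a.left ⟶ R), h₀.left = h.left →
      (pullback.map a ρ base ρ h (𝟙 Z) (𝟙 W) (by rw [Category.comp_id, e]) (by simp) ≫ val).left =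
        (show IsPullback (pullback.fst a ρ).left (pullback.snd a ρ).left a.left ρ.left from
          (IsPullback.of_hasPullback a ρ).map (Over.forget S)).isoPullback.hom ≫
          (E.homEquiv h₀).left ≫ pullback.fst Y.hom W.hom := by
    intro T h a e h₀ hh
    have hE : E.homEquiv h₀ = (Flatn.morS ρ.left Yw).map h₀.op u₀ := by
      rw [← E.homEquiv_comp, Category.comp_id]
    rw [hE, Flatn.morS_map, Over.comp_left, Over.comp_left]
    simp only [val, Over.homMk_left, ← Category.assoc]
    congr 2
    apply pullback.hom_ext
    · simp [hh, ← Over.comp_left]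
    · simp only [Category.assoc, IsPullback.isoPullback_hom_snd, pullback.lift_snd,
        Over.pullback_map_left, Over.map_map_left]
      rw [← Over.comp_left, pullback.lift_snd, Category.comp_id]
      exact (IsPullback.isoPullback_hom_snd _).symm
  refine ⟨⟨obj, base, val, fun {T} a z => ?_⟩, hR, hlfp⟩
  have sqa : IsPullback (pullback.fst a ρ).left (pullback.snd a ρ).left a.left ρ.left :=
    (IsPullback.of_hasPullback a ρ).map (Over.forget S)
  let b : (Flatn.morS ρ.left Yw).obj (op (Over.mk a.left)) :=
    Over.homMk (pullback.lift (sqa.isoPullback.inv ≫ z.left) (pullback.snd a.left ρ.left ≫ ρ.left) (by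
      rw [Category.assoc, Over.w z, Category.assoc, Over.w ρ, Iso.inv_comp_eq,
        sqa.isoPullback_hom_snd_assoc]
      exact (Over.w (pullback.snd a ρ)).symm)) (pullback.lift_snd _ _ _)
  let h₀ := E.homEquiv.symm b
  let h : T ⟶ obj := Over.homMk h₀.left (by
    show h₀.left ≫ R.hom ≫ W.hom = T.hom
    rw [reassoc_of% (Over.w h₀)]
    exact Over.w a)
  have he : h ≫ base = a := Over.OverMorphism.ext (Over.w h₀)
  refine ⟨h, ⟨he, Over.OverMorphism.ext ?_⟩, fun h' ⟨e', hz⟩ => ?_⟩
  · rw [key h a he h₀ rfl, E.homEquiv.apply_symm_apply]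
    simp [b]
  · let h₁ : Over.mk a.left ⟶ R := Over.homMk h'.left (congrArg CommaMorphism.left e')
    have h2 := key h' a e' h₁ rfl
    rw [hz] at h2
    have h3 : E.homEquiv h₁ = b := by
      refine Over.OverMorphism.ext (pullback.hom_ext ?_ ?_)
      · rw [← cancel_epi sqa.isoPullback.hom, ← h2]
        simp [b]
      · exact (Over.w (E.homEquiv h₁)).trans (pullback.lift_snd _ _ _).symm
    have h4 : h₁ = h₀ := E.homEquiv.injective (h3.trans (E.homEquiv.apply_symm_apply b).symm)
    exact Over.OverMorphism.ext (congrArg (fun k => k.left) h4)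

end Groth.Agent.H14Atlas
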