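import Groth.Agent.H14Atlas.Frame
import Groth.Agent.H14Atlas.ResExists
import Groth.Agent.H13Desc.Eff.Sigma
import Groth.Prelude.Def_AlgGrp

/-!
# The universal finite free cover over a base
-/

set_option autoImplicit false
set_option backward.isDefEq.respectTransparency false
set_option backward.isDefEq.respectTransparency.types false
universe u

open CategoryTheory CategoryTheory.Limits AlgebraicGeometry

namespace Groth.Agent.H14Atlas

/-- The index sets of frames. -/
abbrev FrameIdx (n : ULift.{u} ℕ) : Type u := ULift.{u} (Fin (n.down + 1))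

/-- The universal covers of each rank. -/
noncomputable def frameMap (n : ULift.{u} ℕ) :
    Spec (CommRingCat.of (FrameAlg (FrameIdx n))) ⟶ Spec (CommRingCat.of (FrameRing (FrameIdx n))) :=
  Spec.map (CommRingCat.ofHom (algebraMap (FrameRing (FrameIdx n)) (FrameAlg (FrameIdx n))))

/-- The spectra of the rings of structure constants. -/
noncomputable abbrev frameBase : Scheme.{u} :=
  ∐ fun n : ULift.{u} ℕ => Spec (CommRingCat.of (FrameRing (FrameIdx n)))

/-- The universal finite free scheme. -/
noncomputable abbrev frameTotal : Scheme.{u} :=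
  ∐ fun n : ULift.{u} ℕ => Spec (CommRingCat.of (FrameAlg (FrameIdx n)))

/-- The universal finite free cover. -/
noncomputable def frameCover : frameTotal.{u} ⟶ frameBase.{u} := Limits.Sigma.map frameMap

theorem sigmaMap_prop (P : MorphismProperty Scheme.{u}) [IsZariskiLocalAtTarget P]
    (h : ∀ n, P (frameMap.{u} n)) : P frameCover.{u} := by
  refine IsZariskiLocalAtTarget.of_openCover
    (sigmaOpenCover fun n : ULift.{u} ℕ => Spec (CommRingCat.of (FrameRing (FrameIdx n)))) fun n => ?_
  have sq := (H13Desc.Eff.isPullback_sigmaMap frameMap.{u} n).flip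
  exact (P.cancel_left_of_respectsIso sq.isoPullback.hom _).1 (sq.isoPullback_hom_snd.symm ▸ h n)

instance : IsFinite frameCover.{u} := sigmaMap_prop @IsFinite fun n => by
  rw [frameMap, IsFinite.SpecMap_iff]
  exact RingHom.finite_algebraMap.2 inferInstance

instance : Flat frameCover.{u} := sigmaMap_prop @Flat fun n => by
  rw [frameMap, HasRingHomProperty.Spec_iff (P := @Flat)]
  exact RingHom.flat_algebraMap_iff.2 inferInstance

instance : LocallyOfFinitePresentation frameCover.{u} := sigmaMap_prop @LocallyOfFinitePresentation fun n => by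
  rw [frameMap, HasRingHomProperty.Spec_iff (P := @LocallyOfFinitePresentation)]
  refine RingHom.finitePresentation_algebraMap.2 ?_
  haveI : Module.FinitePresentation (FrameRing (FrameIdx n)) (FrameAlg (FrameIdx n)) :=
    Module.finitePresentation_of_projective _ _
  infer_instance

instance : Surjective frameCover.{u} := sigmaMap_prop @Surjective fun n => by
  haveI : Nonempty (FrameIdx n) := ⟨⟨0⟩⟩
  haveI : Module.FaithfullyFlat (FrameRing (FrameIdx n)) (FrameAlg (FrameIdx n)) :=
    Module.FaithfullyFlat.of_linearEquiv _ _ (univFrame (FrameIdx n)).repr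
  exact ⟨PrimeSpectrum.comap_surjective_of_faithfullyFlat⟩

variable (S : Scheme.{u})

/-- The base of frames over `S`. -/
noncomputable def frameW : Over S :=
  Over.mk (pullback.fst (terminal.from S) (terminal.from frameBase.{u}))

/-- The coordinate map of the base of frames. -/
noncomputable def frameCoord : (frameW S).left ⟶ frameBase.{u} :=
  pullback.snd (terminal.from S) (terminal.from frameBase.{u})

/-- The universal cover over the base of frames. -/
noncomputable def frameZ : Over S :=
  Over.mk (pullback.fst (frameCoord S) frameCover ≫ (frameW S).hom)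

/-- The universal cover map over `S`. -/
noncomputable def frameRho : frameZ S ⟶ frameW S := Over.homMk (pullback.fst (frameCoord S) frameCover) rfl

/-- Points of the base of frames. -/
noncomputable def toFrameW {T : Over S} (b : T.left ⟶ frameBase.{u}) : T ⟶ frameW S :=
  Over.homMk (pullback.lift T.hom b (terminal.hom_ext _ _)) (pullback.lift_fst _ _ _)

theorem toFrameW_coord {T : Over S} (b : T.left ⟶ frameBase.{u}) :
    (toFrameW S b).left ≫ frameCoord S = b := pullback.lift_snd _ _ _

theorem frameW_hom_ext {T : Over S} {a a' : T ⟶ frameW S}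
    (h : a.left ≫ frameCoord S = a'.left ≫ frameCoord S) : a = a' :=
  Over.OverMorphism.ext (pullback.hom_ext ((Over.w a).trans (Over.w a').symm) h)

instance : IsFinite (frameRho S).left :=
  inferInstanceAs (IsFinite (pullback.fst (frameCoord S) frameCover))
instance : Flat (frameRho S).left :=
  inferInstanceAs (Flat (pullback.fst (frameCoord S) frameCover))
instance : LocallyOfFinitePresentation (frameRho S).left :=
  inferInstanceAs (LocallyOfFinitePresentation (pullback.fst (frameCoord S) frameCover))
instance : Surjective (frameRho S).left :=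
  inferInstanceAs (Surjective (pullback.fst (frameCoord S) frameCover))

variable {S}

theorem pullback_fst_left_prop (P : MorphismProperty Scheme.{u}) [P.IsStableUnderBaseChange]
    {T Z W : Over S} (a : T ⟶ W) (ρ : Z ⟶ W) (h : P ρ.left) : P (pullback.fst a ρ).left :=
  P.of_isPullback (((IsPullback.of_hasPullback a ρ).map (Over.forget S)).flip) h

/-- A morphism over `S` which is an effective epimorphism of schemes is one over `S`. -/
theorem effectiveEpi_over {P T : Over S} (p : P ⟶ T) [EffectiveEpi p.left] : EffectiveEpi p := by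
  have hc : ∀ {V : Over S} (e : P ⟶ V),
      (∀ {Q : Over S} (g₁ g₂ : Q ⟶ P), g₁ ≫ p = g₂ ≫ p → g₁ ≫ e = g₂ ≫ e) →
        ∀ {Q : Scheme.{u}} (g₁ g₂ : Q ⟶ P.left), g₁ ≫ p.left = g₂ ≫ p.left →
          g₁ ≫ e.left = g₂ ≫ e.left := by
    intro V e he Q g₁ g₂ hg
    have h₂ : g₂ ≫ P.hom = g₁ ≫ P.hom := by
      rw [← Over.w p, reassoc_of% hg]
    exact congrArg (fun k => k.left) (he (Q := Over.mk (g₁ ≫ P.hom)) (Over.homMk g₁ rfl)
      (Over.homMk g₂ h₂) (Over.OverMorphism.ext hg))
  refine ⟨⟨⟨fun {V} e he => Over.homMk (EffectiveEpi.desc p.left e.left (hc e he)) ?_,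
    fun {V} e he => Over.OverMorphism.ext (EffectiveEpi.fac p.left e.left (hc e he)),
    fun {V} e he m hm => Over.OverMorphism.ext (EffectiveEpi.uniq p.left e.left (hc e he) m.left
      (congrArg (fun k => k.left) hm))⟩⟩⟩
  rw [← cancel_epi p.left, ← Category.assoc, EffectiveEpi.fac, Over.w e, Over.w p]

instance {T : Over S} (a : T ⟶ frameW S) : EffectiveEpi (pullback.fst a (frameRho S)) :=
  haveI : IsFinite (pullback.fst a (frameRho S)).left := pullback_fst_left_prop _ a _ inferInstance
  haveI : Flat (pullback.fst a (frameRho S)).left := pullback_fst_left_prop _ a _ inferInstance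
  haveI : Surjective (pullback.fst a (frameRho S)).left := pullback_fst_left_prop _ a _ inferInstance
  effectiveEpi_over _

theorem ρ₂_props : IsFinite (ρ₂ (frameRho S)).left ∧ Flat (ρ₂ (frameRho S)).left ∧
    LocallyOfFinitePresentation (ρ₂ (frameRho S)).left := by
  haveI : IsFinite (pullback.fst (frameRho S) (frameRho S)).left := pullback_fst_left_prop _ _ _ inferInstance
  haveI : Flat (pullback.fst (frameRho S) (frameRho S)).left := pullback_fst_left_prop _ _ _ inferInstance
  haveI : LocallyOfFinitePresentation (pullback.fst (frameRho S) (frameRho S)).left :=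
    pullback_fst_left_prop _ _ _ inferInstance
  rw [show (ρ₂ (frameRho S)).left = (pullback.fst (frameRho S) (frameRho S)).left ≫ (frameRho S).left from rfl]
  exact ⟨inferInstance, inferInstance, inferInstance⟩

theorem ρ₃_props : IsFinite (ρ₃ (frameRho S)).left ∧ Flat (ρ₃ (frameRho S)).left ∧
    LocallyOfFinitePresentation (ρ₃ (frameRho S)).left := by
  let f := pullback.snd (frameRho S) (frameRho S)
  let g := pullback.fst (frameRho S) (frameRho S)
  haveI : IsFinite g.left := pullback_fst_left_prop _ _ _ inferInstance
  haveI : Flat g.left := pullback_fst_left_prop _ _ _ inferInstance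
  haveI : LocallyOfFinitePresentation g.left := pullback_fst_left_prop _ _ _ inferInstance
  haveI : IsFinite (pullback.fst f g).left := pullback_fst_left_prop _ _ _ inferInstance
  haveI : Flat (pullback.fst f g).left := pullback_fst_left_prop _ _ _ inferInstance
  haveI : LocallyOfFinitePresentation (pullback.fst f g).left := pullback_fst_left_prop _ _ _ inferInstance
  obtain ⟨h1, h2, h3⟩ := ρ₂_props (S := S)
  rw [show (ρ₃ (frameRho S)).left = (pullback.fst f g).left ≫ (ρ₂ (frameRho S)).left from rfl]
  exact ⟨inferInstance, inferInstance, inferInstance⟩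

/-- The three representing objects for an affine group. -/
theorem exists_res_triple (G : Over S) [IsAffineHom G.hom] :
    Nonempty (Res (ρ₂ (frameRho S)) G) ∧ Nonempty (Res (ρ₃ (frameRho S)) G) ∧
      ∃ M : Res (frameRho S) G, IsAffineHom M.base.left ∧
        (LocallyOfFinitePresentation G.hom → LocallyOfFinitePresentation M.base.left) := by
  refine ⟨?_, ?_, exists_res _ G⟩
  · obtain ⟨h1, h2, h3⟩ := ρ₂_props (S := S)
    obtain ⟨M, -⟩ := exists_res (ρ₂ (frameRho S)) G
    exact ⟨M⟩
  · obtain ⟨h1, h2, h3⟩ := ρ₃_props (S := S)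
    obtain ⟨M, -⟩ := exists_res (ρ₃ (frameRho S)) G
    exact ⟨M⟩

end Groth.Agent.H14Atlas
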