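import Groth.Agent.H14Atlas.Lift
import Groth.Agent.H14Atlas.Points

/-!
# Formal smoothness of the space of framed sections at a slice
-/

set_option autoImplicit false
set_option backward.isDefEq.respectTransparency false
set_option backward.isDefEq.respectTransparency.types false
set_option linter.style.haveILetI false
set_option maxHeartbeats 800000
universe u

open CategoryTheory CategoryTheory.Limits AlgebraicGeometry Opposite IsLocalRing
open scoped TensorProduct

namespace Groth.Agent.H14Atlas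

attribute [local irreducible] BMap

variable {S : Scheme.{u}} {R : Type u} [CommRing R] (ι : Spec (CommRingCat.of R) ⟶ S) [Mono ι]
  (n : ULift.{u} ℕ) {G : Over S} {A : Type u} [CommRing A] [Algebra R A]
  {j : Spec (CommRingCat.of A) ⟶ G.left}
  (sq : IsPullback j (Spec.map (CommRingCat.ofHom (algebraMap R A))) G.hom ι)
  (M : Res (frameRho S) G)

/-- Evaluation on a field of the linear extension. -/
theorem BMap_extZ {C D : Type u} [CommRing C] [Algebra R C] [Algebra (FrameRing (FrameIdx n)) C]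
    [SMulCommClass (FrameRing (FrameIdx n)) R C] [CommRing D] [Algebra R D]
    [Algebra (FrameRing (FrameIdx n)) D] [SMulCommClass (FrameRing (FrameIdx n)) R D] [Algebra C D]
    [IsScalarTower R C D] [IsScalarTower (FrameRing (FrameIdx n)) C D]
    (θ : A →ₐ[R] BOf n C) (x : C ⊗[R] A) :
    BMap (R := R) n C D (extZ θ x) = extZ ((BMap (R := R) n C D).comp θ)
      (Algebra.TensorProduct.map (IsScalarTower.toAlgHom R C D) (AlgHom.id R A) x) := by
  induction x using TensorProduct.induction_on with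
  | zero => simp
  | add a b ha hb => simp [ha, hb]
  | tmul c a =>
    simp only [extZ, Algebra.TensorProduct.lift_tmul, Algebra.TensorProduct.map_tmul,
      IsScalarTower.toAlgHom_apply, AlgHom.id_apply, AlgHom.comp_apply, map_mul]
    congr 1
    exact BMap_algebraMap n C D c

omit [Mono ι] in
/-- Maps agreeing on frames agree. -/
theorem BMap_eq_of_frame {C D B' : Type u} [CommRing C] [Algebra R C]
    [Algebra (FrameRing (FrameIdx n)) C] [SMulCommClass (FrameRing (FrameIdx n)) R C] [CommRing D]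
    [Algebra R D] [Algebra (FrameRing (FrameIdx n)) D] [SMulCommClass (FrameRing (FrameIdx n)) R D]
    [Algebra C D] [IsScalarTower R C D] [IsScalarTower (FrameRing (FrameIdx n)) C D]
    [CommRing B'] [Algebra C B'] (b' : Module.Basis (FrameIdx n) C B') (e : BOf n C ≃ₐ[C] B')
    (he : ∀ i, e ((1 : C) ⊗ₜ univFrame (FrameIdx n) i) = b' i) (π : B' →+* BOf n D)
    (hπ : ∀ c, π (algebraMap C B' c) = algebraMap D (BOf n D) (algebraMap C D c))
    (hb : ∀ i, π (b' i) = (1 : D) ⊗ₜ univFrame (FrameIdx n) i) (y : B') :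
    BMap (R := R) n C D (e.symm y) = π y := by
  let f : B' →+* BOf n D := (BMap (R := R) n C D).toRingHom.comp e.symm.toAlgHom.toRingHom
  have hfC : ∀ c, f (algebraMap C B' c) = algebraMap D (BOf n D) (algebraMap C D c) := fun c =>
    (congrArg (BMap (R := R) n C D) (e.symm.commutes c)).trans (BMap_algebraMap n C D c)
  have hfb : ∀ i, f (b' i) = (1 : D) ⊗ₜ univFrame (FrameIdx n) i := fun i => by
    refine (congrArg (BMap (R := R) n C D) (e.symm_apply_eq.2 (he i).symm)).trans ?_
    rw [BMap_tmul, map_one]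
  have key : f (∑ i, b'.repr y i • b' i) = π (∑ i, b'.repr y i • b' i) := by
    rw [map_sum f, map_sum π]
    refine Finset.sum_congr rfl fun i _ => ?_
    rw [Algebra.smul_def, map_mul f, map_mul π, hfC, hfb, hπ, hb]
  rw [b'.sum_repr y] at key
  exact key

omit [Mono ι] in
theorem cancel_one_tmul {C D : Type u} [CommRing C] [Algebra R C]
    [Algebra (FrameRing (FrameIdx n)) C] [SMulCommClass (FrameRing (FrameIdx n)) R C] [CommRing D]
    [Algebra R D] [Algebra (FrameRing (FrameIdx n)) D] [SMulCommClass (FrameRing (FrameIdx n)) R D]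
    [Algebra C D] [IsScalarTower R C D] [IsScalarTower (FrameRing (FrameIdx n)) C D] (x : BOf n C) :
    Algebra.TensorProduct.cancelBaseChange (FrameRing (FrameIdx n)) C D D (FrameAlg (FrameIdx n))
      ((1 : D) ⊗ₜ[C] x) = BMap (R := R) n C D x := by
  induction x using TensorProduct.induction_on with
  | zero => simp
  | add x y hx hy => rw [TensorProduct.tmul_add, map_add, map_add, hx, hy]
  | tmul q x =>
    rw [BMap_tmul, Algebra.TensorProduct.cancelBaseChange_tmul, Algebra.smul_def, mul_one]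

variable {Q₀ : Type u} [CommRing Q₀] [Algebra R Q₀] [Algebra (FrameRing (FrameIdx n)) Q₀]
  [SMulCommClass (FrameRing (FrameIdx n)) R Q₀] (v : Spec (CommRingCat.of Q₀) ⟶ M.obj.left)
  [IsOpenImmersion v] (𝔮 : Ideal Q₀) [𝔮.IsPrime] [Algebra.FinitePresentation R A] [Module.Flat R A]

include sq in
/-- Points lift over square-zero extensions at a finite slice. -/
theorem exists_lift_alg [SMulCommClass (FrameRing (FrameIdx n)) R (Localization.AtPrime 𝔮)]
    {θ₀ : A →ₐ[R] BOf n Q₀} (hv : (pointOf ι n Q₀ sq M θ₀).left = v)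
    (hz : ∀ b : BOf n (Localization.AtPrime 𝔮), ∃ a : Localization.AtPrime 𝔮 ⊗[R] A,
      extZ ((BMap (R := R) n Q₀ (Localization.AtPrime 𝔮)).comp θ₀) a - b ∈
        (maximalIdeal (Localization.AtPrime 𝔮)).map (algebraMap _ (BOf n (Localization.AtPrime 𝔮))))
    (fs : List (Localization.AtPrime 𝔮 ⊗[R] A))
    (hfs : ∀ f ∈ fs, extZ ((BMap (R := R) n Q₀ (Localization.AtPrime 𝔮)).comp θ₀) f ∈
      (maximalIdeal (Localization.AtPrime 𝔮)).map (algebraMap _ (BOf n (Localization.AtPrime 𝔮))))
    (hker : ∀ a, extZ ((BMap (R := R) n Q₀ (Localization.AtPrime 𝔮)).comp θ₀) a ∈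
        (maximalIdeal (Localization.AtPrime 𝔮)).map (algebraMap _ (BOf n (Localization.AtPrime 𝔮))) →
      a ∈ (maximalIdeal (Localization.AtPrime 𝔮)).map
        (algebraMap _ (Localization.AtPrime 𝔮 ⊗[R] A)) ⊔ Ideal.ofList fs)
    (hreg : ∀ i (h : i < fs.length) (x : Localization.AtPrime 𝔮 ⊗[R] A),
      x * fs[i] ∈ (maximalIdeal (Localization.AtPrime 𝔮)).map
          (algebraMap _ (Localization.AtPrime 𝔮 ⊗[R] A)) ⊔ Ideal.ofList (fs.take i) →
        x ∈ (maximalIdeal (Localization.AtPrime 𝔮)).map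
          (algebraMap _ (Localization.AtPrime 𝔮 ⊗[R] A)) ⊔ Ideal.ofList (fs.take i))
    {C D : Type u} [CommRing C] [CommRing D] [Algebra R C] [Algebra R D] [Algebra C D]
    [IsScalarTower R C D] [Algebra (Localization.AtPrime 𝔮) D]
    [IsScalarTower R (Localization.AtPrime 𝔮) D] (hD : Function.Surjective (algebraMap C D))
    (hN : ∀ a ∈ RingHom.ker (algebraMap C D), ∀ b ∈ RingHom.ker (algebraMap C D), a * b = 0) :
    ∃ g : Localization.AtPrime 𝔮 →ₐ[R] C, ∀ y, algebraMap C D (g y) =
      algebraMap (Localization.AtPrime 𝔮) D y := by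
  let Q := Localization.AtPrime 𝔮
  let z : A →ₐ[R] BOf n Q := (BMap (R := R) n Q₀ Q).comp θ₀
  letI : Algebra (FrameRing (FrameIdx n)) D :=
    ((algebraMap Q D).comp (algebraMap (FrameRing (FrameIdx n)) Q)).toAlgebra
  haveI : IsScalarTower (FrameRing (FrameIdx n)) Q D := IsScalarTower.of_algebraMap_eq fun _ => rfl
  haveI := smulComm_alg Q C D
  haveI := smulComm_alg (FrameRing (FrameIdx n)) R D
  let β : Module.Basis (FrameIdx n) Q (BOf n Q) := Algebra.TensorProduct.basis Q (univFrame (FrameIdx n))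
  obtain ⟨B', _, _, z', π, b', hz', hπ, hb⟩ :=
    exists_lift (C := C) (D := D) z hz fs hfs hker hreg hD hN β
  let κ : D ⊗[Q] BOf n Q ≃ₐ[D] BOf n D :=
    Algebra.TensorProduct.cancelBaseChange (FrameRing (FrameIdx n)) Q D D (FrameAlg (FrameIdx n))
  have hκ : ∀ i, κ ((1 : D) ⊗ₜ β i) = Algebra.TensorProduct.basis D (univFrame (FrameIdx n)) i := fun i => by
    simp [κ, β, Algebra.TensorProduct.basis_apply]
  obtain ⟨ψ, hψm, hψo⟩ := exists_classify b'
  have hπC : ∀ c, κ (π (algebraMap C B' c)) = algebraMap D (BOf n D) (algebraMap C D c) := fun c => by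
    rw [AlgHom.commutes, IsScalarTower.algebraMap_apply C D (D ⊗[Q] BOf n Q), AlgEquiv.commutes]
  have hψ : (algebraMap C D).comp ψ = algebraMap (FrameRing (FrameIdx n)) D := by
    refine classify_comp b' ψ hψm hψo (algebraMap C D)
      (Algebra.TensorProduct.basis D (univFrame (FrameIdx n))) _ (fun i j => ?_) ?_
      ((κ.toAlgHom.toRingHom).comp π.toRingHom) (RingHom.ext hπC) fun i => ?_
    · simp only [Algebra.TensorProduct.basis_apply]
      exact tmul_frame_mul D i j
    · simp only [Algebra.TensorProduct.basis_apply]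
      exact tmul_frame_one D
    · show κ (π (b' i)) = _
      rw [hb, hκ]
  letI : Algebra (FrameRing (FrameIdx n)) C := ψ.toAlgebra
  haveI := smulComm_alg (FrameRing (FrameIdx n)) R C
  haveI : IsScalarTower (FrameRing (FrameIdx n)) C D :=
    IsScalarTower.of_algebraMap_eq fun x => (RingHom.congr_fun hψ x).symm
  obtain ⟨e, he⟩ := exists_equiv_of_law (C := C) b' hψm hψo
  have hem : ∀ y, BMap (R := R) n C D (e.symm y) = κ (π y) :=
    BMap_eq_of_frame (R := R) n b' e he ((κ.toAlgHom.toRingHom).comp π.toRingHom) hπC fun i =>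
      (congrArg κ (hb i)).trans ((hκ i).trans (Algebra.TensorProduct.basis_apply _ _))
  let θC : A →ₐ[R] BOf n C :=
    { e.symm.toAlgHom.toRingHom.comp z' with
      commutes' := fun r => by
        show e.symm (z' (algebraMap R A r)) = _
        rw [show z' (algebraMap R A r) = algebraMap C B' (algebraMap R C r) from RingHom.congr_fun hz' r,
          AlgEquiv.commutes]
        exact (IsScalarTower.algebraMap_apply R C (BOf n C) r).symm }
  have hθ : (BMap (R := R) n C D).comp θC = (BMap (R := R) n Q D).comp z := by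
    refine AlgHom.ext fun a => ?_
    show BMap (R := R) n C D (e.symm (z' a)) = BMap (R := R) n Q D (z a)
    rw [hem, hπ]
    exact cancel_one_tmul (R := R) n (z a)
  let hC := pointOf ι n C sq M θC
  have hcomp : testMap ι C D ≫ hC = (testMap ι Q D ≫ testMap ι Q₀ Q) ≫ pointOf ι n Q₀ sq M θ₀ := by
    rw [Category.assoc, testMap_pointOf, testMap_pointOf, testMap_pointOf, hθ]
  have hcl : Spec.map (CommRingCat.ofHom (algebraMap C D)) ≫ hC.left =
      (Spec.map (CommRingCat.ofHom (algebraMap Q D)) ≫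
        Spec.map (CommRingCat.ofHom (algebraMap Q₀ Q))) ≫ v := by
    have h := congrArg (fun k => k.left) hcomp
    simp only [Over.comp_left] at h
    rw [← hv]
    exact h
  have hrange : Set.range hC.left ⊆ Set.range v := by
    rintro _ ⟨x, rfl⟩
    obtain ⟨y, rfl⟩ : x ∈ Set.range (Spec.map (CommRingCat.ofHom (algebraMap C D))) := by
      change x ∈ Set.range (PrimeSpectrum.comap (algebraMap C D))
      rw [range_comap_of_surjective _ _ hD, PrimeSpectrum.mem_zeroLocus]
      intro a ha
      refine x.isPrime.mem_of_pow_mem 2 ?_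
      rw [pow_two, hN a ha a ha]
      exact zero_mem _
    exact ⟨_, (congrArg (fun k : Spec (CommRingCat.of D) ⟶ M.obj.left => k y) hcl).symm⟩
  obtain ⟨g, hg⟩ := Spec.map_surjective (IsOpenImmersion.lift v hC.left hrange)
  have hgR : g.hom.comp (algebraMap R Q₀) = algebraMap R C := by
    have h1 : Spec.map (CommRingCat.ofHom (algebraMap R Q₀) ≫ g) ≫ ι =
        Spec.map (CommRingCat.ofHom (algebraMap R C)) ≫ ι := by
      rw [Spec.map_comp_assoc, hg]
      have h2 := Over.w (pointOf ι n Q₀ sq M θ₀)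
      rw [hv] at h2
      change v ≫ M.obj.hom = Spec.map _ ≫ ι at h2
      rw [← h2, IsOpenImmersion.lift_fac_assoc]
      exact Over.w hC
    exact congrArg CommRingCat.Hom.hom (Spec.map_injective ((cancel_mono ι).1 h1))
  have hgm : (algebraMap C D).comp g.hom = (algebraMap Q D).comp (algebraMap Q₀ Q) := by
    have h1 : Spec.map (g ≫ CommRingCat.ofHom (algebraMap C D)) ≫ v =
        Spec.map (CommRingCat.ofHom (algebraMap Q₀ Q) ≫ CommRingCat.ofHom (algebraMap Q D)) ≫ v := by
      rw [Spec.map_comp_assoc, hg, IsOpenImmersion.lift_fac, hcl, Spec.map_comp]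
    exact congrArg CommRingCat.Hom.hom (Spec.map_injective ((cancel_mono v).1 h1))
  have hu : ∀ t : 𝔮.primeCompl, IsUnit (g.hom t) := by
    intro t
    have h1 : IsUnit ((algebraMap C D) (g.hom t)) := by
      rw [← RingHom.comp_apply, hgm]
      exact (IsLocalization.map_units Q t).map (algebraMap Q D)
    obtain ⟨c, hc⟩ := hD h1.unit⁻¹.val
    have h2 : g.hom t * c - 1 ∈ RingHom.ker (algebraMap C D) := by
      rw [RingHom.mem_ker, map_sub, map_mul, hc, map_one, h1.mul_val_inv, sub_self]
    have h3 : IsNilpotent (g.hom t * c - 1) := ⟨2, by rw [pow_two]; exact hN _ h2 _ h2⟩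
    have h4 := h3.isUnit_one_add
    rw [add_sub_cancel] at h4
    exact isUnit_of_mul_isUnit_left h4
  let f₀ : Q₀ →ₐ[R] C := { g.hom with commutes' := fun r => RingHom.congr_fun hgR r }
  refine ⟨IsLocalization.liftAlgHom (A := R) (M := 𝔮.primeCompl) (S := Q) (P := C) (f := f₀) hu, ?_⟩
  refine fun y => RingHom.congr_fun (IsLocalization.ringHom_ext 𝔮.primeCompl (RingHom.ext fun x => ?_) :
    (algebraMap C D).comp (IsLocalization.liftAlgHom (A := R) (M := 𝔮.primeCompl) (S := Q) (P := C)
      (f := f₀) hu).toRingHom = algebraMap Q D) y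
  show algebraMap C D (IsLocalization.lift _ (algebraMap Q₀ Q x)) = algebraMap Q D (algebraMap Q₀ Q x)
  rw [IsLocalization.lift_eq]
  exact RingHom.congr_fun hgm x

include sq in
/-- The space of framed sections is formally smooth at a finite slice. -/
theorem formallySmooth_atPrime [SMulCommClass (FrameRing (FrameIdx n)) R (Localization.AtPrime 𝔮)]
    {θ₀ : A →ₐ[R] BOf n Q₀} (hv : (pointOf ι n Q₀ sq M θ₀).left = v)
    (hz : ∀ b : BOf n (Localization.AtPrime 𝔮), ∃ a : Localization.AtPrime 𝔮 ⊗[R] A,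
      extZ ((BMap (R := R) n Q₀ (Localization.AtPrime 𝔮)).comp θ₀) a - b ∈
        (maximalIdeal (Localization.AtPrime 𝔮)).map (algebraMap _ (BOf n (Localization.AtPrime 𝔮))))
    (fs : List (Localization.AtPrime 𝔮 ⊗[R] A))
    (hfs : ∀ f ∈ fs, extZ ((BMap (R := R) n Q₀ (Localization.AtPrime 𝔮)).comp θ₀) f ∈
      (maximalIdeal (Localization.AtPrime 𝔮)).map (algebraMap _ (BOf n (Localization.AtPrime 𝔮))))
    (hker : ∀ a, extZ ((BMap (R := R) n Q₀ (Localization.AtPrime 𝔮)).comp θ₀) a ∈
        (maximalIdeal (Localization.AtPrime 𝔮)).map (algebraMap _ (BOf n (Localization.AtPrime 𝔮))) →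
      a ∈ (maximalIdeal (Localization.AtPrime 𝔮)).map
        (algebraMap _ (Localization.AtPrime 𝔮 ⊗[R] A)) ⊔ Ideal.ofList fs)
    (hreg : ∀ i (h : i < fs.length) (x : Localization.AtPrime 𝔮 ⊗[R] A),
      x * fs[i] ∈ (maximalIdeal (Localization.AtPrime 𝔮)).map
          (algebraMap _ (Localization.AtPrime 𝔮 ⊗[R] A)) ⊔ Ideal.ofList (fs.take i) →
        x ∈ (maximalIdeal (Localization.AtPrime 𝔮)).map
          (algebraMap _ (Localization.AtPrime 𝔮 ⊗[R] A)) ⊔ Ideal.ofList (fs.take i)) :
    Algebra.FormallySmooth R (Localization.AtPrime 𝔮) := by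
  refine Algebra.FormallySmooth.of_comp_surjective fun C _ _ N hN φ => ?_
  letI : Algebra (Localization.AtPrime 𝔮) (C ⧸ N) := φ.toRingHom.toAlgebra
  haveI : IsScalarTower R (Localization.AtPrime 𝔮) (C ⧸ N) :=
    IsScalarTower.of_algebraMap_eq fun r => (φ.commutes r).symm
  obtain ⟨g, hg⟩ := exists_lift_alg (C := C) (D := C ⧸ N) ι n sq M v 𝔮 hv hz fs hfs hker hreg
    Ideal.Quotient.mk_surjective (fun a ha b hb => by
      rw [Ideal.Quotient.algebraMap_eq, Ideal.mk_ker] at ha hb
      have : a * b ∈ N ^ 2 := by rw [pow_two]; exact Ideal.mul_mem_mul ha hb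
      rwa [hN, Ideal.mem_bot] at this)
  exact ⟨g, AlgHom.ext hg⟩

end Groth.Agent.H14Atlas
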