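import Mathlib

/-!
# Framed algebras and their universal structure constants
-/

set_option autoImplicit false
set_option linter.style.haveILetI false
set_option backward.isDefEq.respectTransparency false
set_option backward.isDefEq.respectTransparency.types false
universe u

open scoped TensorProduct

namespace Groth.Agent.H14Atlas

variable {ι : Type u} [Fintype ι] [DecidableEq ι]

/-- Structure constants of a commutative algebra with a frame. -/
structure Law (ι : Type u) (T : Type u) where
  /-- the products of the members of the frame -/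
  c : ι → ι → ι → T
  /-- the coordinates of the unit -/
  one : ι → T

namespace Law

variable {T : Type u} [CommRing T]

/-- The multiplication with given structure constants. -/
noncomputable def mulOf (L : Law ι T) : (ι → T) →ₗ[T] (ι → T) →ₗ[T] (ι → T) :=
  (Pi.basisFun T ι).constr T fun i => (Pi.basisFun T ι).constr T fun j => L.c i j

theorem mulOf_basis (L : Law ι T) (i j : ι) :
    L.mulOf (Pi.basisFun T ι i) (Pi.basisFun T ι j) = L.c i j := by
  rw [mulOf, Module.Basis.constr_basis, Module.Basis.constr_basis]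

/-- The laws of commutative algebras. -/
structure Valid (L : Law ι T) : Prop where
  comm : ∀ i j k, L.c i j k = L.c j i k
  assoc : ∀ i j m k, ∑ l, L.c i j l * L.c l m k = ∑ l, L.c j m l * L.c i l k
  one_mul : ∀ j k, ∑ l, L.one l * L.c l j k = if j = k then 1 else 0

theorem mulOf_left (L : Law ι T) (x : ι → T) (j : ι) :
    L.mulOf x (Pi.basisFun T ι j) = ∑ l, x l • L.c l j := by
  conv_lhs => rw [← (Pi.basisFun T ι).sum_repr x]
  simp only [map_sum, map_smul, LinearMap.sum_apply, LinearMap.smul_apply, mulOf_basis,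
    Pi.basisFun_repr]

theorem mulOf_right (L : Law ι T) (i : ι) (y : ι → T) :
    L.mulOf (Pi.basisFun T ι i) y = ∑ l, y l • L.c i l := by
  conv_lhs => rw [← (Pi.basisFun T ι).sum_repr y]
  simp only [map_sum, map_smul, mulOf_basis, Pi.basisFun_repr]

variable {L : Law ι T}

theorem Valid.mul_comm (h : L.Valid) (x y : ι → T) : L.mulOf x y = L.mulOf y x := by
  have : L.mulOf = L.mulOf.flip := (Pi.basisFun T ι).ext fun i => (Pi.basisFun T ι).ext fun j => by
    rw [LinearMap.flip_apply, mulOf_basis, mulOf_basis]
    exact funext (h.comm i j)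
  exact LinearMap.congr_fun₂ this x y

theorem Valid.mul_assoc (h : L.Valid) (x y z : ι → T) :
    L.mulOf (L.mulOf x y) z = L.mulOf x (L.mulOf y z) := by
  have : L.mulOf.compr₂ L.mulOf = ((LinearMap.llcomp T (ι → T) (ι → T) (ι → T)).compl₁₂ L.mulOf L.mulOf) :=
    (Pi.basisFun T ι).ext fun i => (Pi.basisFun T ι).ext fun j => (Pi.basisFun T ι).ext fun m => by
      rw [LinearMap.compr₂_apply, LinearMap.compl₁₂_apply, LinearMap.llcomp_apply, mulOf_basis,
        mulOf_basis, mulOf_left, mulOf_right]
      funext k
      simp only [Finset.sum_apply, Pi.smul_apply, smul_eq_mul]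
      exact h.assoc i j m k
  exact LinearMap.congr_fun (LinearMap.congr_fun₂ this x y) z

theorem Valid.one_mul' (h : L.Valid) (y : ι → T) : L.mulOf L.one y = y := by
  have : L.mulOf L.one = LinearMap.id := (Pi.basisFun T ι).ext fun j => by
    rw [mulOf_left]
    funext k
    simp only [Finset.sum_apply, Pi.smul_apply, smul_eq_mul, LinearMap.id_apply, h.one_mul,
      Pi.basisFun_apply, Pi.single_apply]
    exact ite_congr (propext eq_comm) (fun _ => rfl) fun _ => rfl
  exact LinearMap.congr_fun this y

/-- The algebra with a frame and given structure constants. -/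
def Alg (_ : L.Valid) : Type u := ι → T

variable (h : L.Valid)

noncomputable instance : AddCommGroup (Alg h) := inferInstanceAs (AddCommGroup (ι → T))
noncomputable instance : Module T (Alg h) := inferInstanceAs (Module T (ι → T))

/-- The coordinates. -/
noncomputable def Alg.coord : Alg h ≃ₗ[T] (ι → T) := LinearEquiv.refl T _

noncomputable instance : CommRing (Alg h) :=
  { (inferInstance : AddCommGroup (Alg h)) with
    mul := fun x y => (Alg.coord h).symm (L.mulOf (Alg.coord h x) (Alg.coord h y))
    one := (Alg.coord h).symm L.one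
    mul_assoc := fun x y z => h.mul_assoc _ _ _
    mul_comm := fun x y => h.mul_comm _ _
    one_mul := fun x => h.one_mul' _
    mul_one := fun x => (h.mul_comm _ _).trans (h.one_mul' _)
    left_distrib := fun x y z => map_add (L.mulOf (Alg.coord h x)) _ _
    right_distrib := fun x y z => LinearMap.map_add₂ L.mulOf _ _ _
    zero_mul := fun x => LinearMap.map_zero₂ L.mulOf _
    mul_zero := fun x => map_zero (L.mulOf (Alg.coord h x)) }

noncomputable instance : Algebra T (Alg h) :=
  Algebra.ofModule (fun r x y => LinearMap.map_smul₂ L.mulOf r _ _)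
    (fun r x y => map_smul (L.mulOf (Alg.coord h x)) r _)

/-- The frame. -/
noncomputable def Alg.frame : Module.Basis ι T (Alg h) := (Pi.basisFun T ι).map (Alg.coord h).symm

theorem Alg.frame_mul (i j : ι) :
    Alg.frame h i * Alg.frame h j = ∑ k, L.c i j k • Alg.frame h k := by
  show (Alg.coord h).symm (L.mulOf _ _) = _
  simp only [Alg.frame, Module.Basis.map_apply, LinearEquiv.apply_symm_apply, mulOf_basis,
    ← map_smul, ← map_sum]
  congr 1
  exact (pi_eq_sum_univ' (L.c i j)).trans (by simp)

theorem Alg.frame_one : (1 : Alg h) = ∑ k, L.one k • Alg.frame h k := by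
  show (Alg.coord h).symm L.one = _
  simp only [Alg.frame, Module.Basis.map_apply, ← map_smul, ← map_sum]
  congr 1
  exact (pi_eq_sum_univ' L.one).trans (by simp)

instance : Module.Free T (Alg h) := Module.Free.of_basis (Alg.frame h)
instance : Module.Finite T (Alg h) := Module.Finite.of_basis (Alg.frame h)

end Law

open MvPolynomial

variable (ι)

/-- The variables of the universal law. -/
abbrev Gen : Type u := (ι × ι × ι) ⊕ ι

/-- The generic law. -/
noncomputable def genLaw : Law ι (MvPolynomial (Gen ι) (ULift.{u} ℤ)) where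
  c i j k := X (Sum.inl (i, j, k))
  one k := X (Sum.inr k)

/-- The relations of the universal law. -/
noncomputable def frameIdeal : Ideal (MvPolynomial (Gen ι) (ULift.{u} ℤ)) :=
  Ideal.span (Set.range (fun p : ι × ι × ι => (genLaw ι).c p.1 p.2.1 p.2.2 - (genLaw ι).c p.2.1 p.1 p.2.2) ∪
    Set.range (fun p : (ι × ι) × ι × ι =>
      ∑ l, (genLaw ι).c p.1.1 p.1.2 l * (genLaw ι).c l p.2.1 p.2.2 -
        ∑ l, (genLaw ι).c p.1.2 p.2.1 l * (genLaw ι).c p.1.1 l p.2.2) ∪
    Set.range (fun p : ι × ι =>
      ∑ l, (genLaw ι).one l * (genLaw ι).c l p.1 p.2 - if p.1 = p.2 then 1 else 0))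

/-- The ring of structure constants. -/
def FrameRing : Type u := MvPolynomial (Gen ι) (ULift.{u} ℤ) ⧸ frameIdeal ι

noncomputable instance : CommRing (FrameRing ι) :=
  inferInstanceAs (CommRing (MvPolynomial (Gen ι) (ULift.{u} ℤ) ⧸ frameIdeal ι))

/-- The quotient map to the ring of structure constants. -/
noncomputable def toFrameRing : MvPolynomial (Gen ι) (ULift.{u} ℤ) →+* FrameRing ι :=
  Ideal.Quotient.mk _

/-- The universal law. -/
noncomputable def univLaw : Law ι (FrameRing ι) where
  c i j k := toFrameRing ι ((genLaw ι).c i j k)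
  one k := toFrameRing ι ((genLaw ι).one k)

theorem univLaw_valid : (univLaw ι).Valid where
  comm i j k := Ideal.Quotient.eq.2 (Ideal.subset_span (Or.inl (Or.inl ⟨(i, j, k), rfl⟩)))
  assoc i j m k := by
    simp only [univLaw, ← map_mul, ← map_sum]
    exact Ideal.Quotient.eq.2 (Ideal.subset_span (Or.inl (Or.inr ⟨((i, j), m, k), rfl⟩)))
  one_mul j k := by
    have h : (if j = k then (1 : FrameRing ι) else 0) =
        toFrameRing ι (if j = k then 1 else 0) := by split_ifs <;> simp
    simp only [univLaw, ← map_mul, ← map_sum, h]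
    exact Ideal.Quotient.eq.2 (Ideal.subset_span (Or.inr ⟨(j, k), rfl⟩))

/-- The universal framed algebra. -/
abbrev FrameAlg : Type u := Law.Alg (univLaw_valid ι)

/-- The universal frame. -/
noncomputable def univFrame : Module.Basis ι (FrameRing ι) (FrameAlg ι) :=
  Law.Alg.frame (univLaw_valid ι)

variable {ι}

omit [Fintype ι] [DecidableEq ι] in
/-- The ring map out of polynomials with given values. -/
noncomputable def genHom {C : Type u} [CommRing C] (v : Gen ι → C) :
    MvPolynomial (Gen ι) (ULift.{u} ℤ) →+* C :=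
  MvPolynomial.eval₂Hom ((Int.castRingHom C).comp ULift.ringEquiv.toRingHom) v

omit [DecidableEq ι] in
theorem frameRing_hom_ext [DecidableEq ι] {C : Type u} [CommRing C] {φ ψ : FrameRing ι →+* C}
    (hc : ∀ i j k, φ ((univLaw ι).c i j k) = ψ ((univLaw ι).c i j k))
    (ho : ∀ k, φ ((univLaw ι).one k) = ψ ((univLaw ι).one k)) : φ = ψ := by
  refine Ideal.Quotient.ringHom_ext (MvPolynomial.ringHom_ext (fun r => ?_) fun g => ?_)
  · obtain ⟨r⟩ := r
    have h : (⟨r⟩ : ULift.{u} ℤ) = (r : ULift.{u} ℤ) := by ext; simp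
    simp [h]
  · rcases g with ⟨i, j, k⟩ | k
    · exact hc i j k
    · exact ho k

/-- A framed algebra is classified by a map out of the ring of structure constants. -/
theorem exists_classify {C B' : Type u} [CommRing C] [CommRing B'] [Algebra C B']
    (b : Module.Basis ι C B') :
    ∃ ψ : FrameRing ι →+* C,
      (∀ i j, b i * b j = ∑ k, ψ ((univLaw ι).c i j k) • b k) ∧
        (1 : B') = ∑ k, ψ ((univLaw ι).one k) • b k := by
  let v : Gen ι → C := Sum.elim (fun p => b.repr (b p.1 * b p.2.1) p.2.2) fun k => b.repr 1 k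
  have hcX : ∀ i j k, genHom v ((genLaw ι).c i j k) = b.repr (b i * b j) k := fun i j k => by
    simp [genHom, genLaw, v]
  have hoX : ∀ k, genHom v ((genLaw ι).one k) = b.repr 1 k := fun k => by simp [genHom, genLaw, v]
  have hm : ∀ (x y : B') k, ∑ l, b.repr x l * b.repr (b l * y) k = b.repr (x * y) k := by
    intro x y k
    conv_rhs => rw [← b.sum_repr x, Finset.sum_mul, map_sum, Finset.sum_apply']
    simp
  have hle : frameIdeal ι ≤ RingHom.ker (genHom v) := by
    refine Ideal.span_le.2 fun x hx => ?_
    rw [SetLike.mem_coe, RingHom.mem_ker]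
    rcases hx with (⟨⟨i, j, k⟩, rfl⟩ | ⟨⟨⟨i, j⟩, m, k⟩, rfl⟩) | ⟨⟨j, k⟩, rfl⟩
    · rw [map_sub, hcX, hcX, mul_comm, sub_self]
    · simp only [map_sub, map_sum, map_mul, hcX]
      rw [hm (b i * b j) (b m) k]
      have h2 := hm (b j * b m) (b i) k
      simp only [mul_comm (b _) (b i)] at h2
      rw [h2, sub_eq_zero]
      congr 2
      rw [mul_comm (b j * b m), mul_assoc]
    · simp only [map_sub, map_sum, map_mul, hcX, hoX]
      rw [hm 1 (b j) k, one_mul, b.repr_self, Finsupp.single_apply]
      split_ifs <;> simp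
  refine ⟨Ideal.Quotient.lift _ (genHom v) fun x hx => hle hx, fun i j => ?_, ?_⟩
  · refine (b.sum_repr _).symm.trans (Finset.sum_congr rfl fun k _ => ?_)
    exact congrArg (· • b k) ((hcX i j k).symm)
  · refine (b.sum_repr _).symm.trans (Finset.sum_congr rfl fun k _ => ?_)
    exact congrArg (· • b k) ((hoX k).symm)

/-- The map from the universal algebra determined by a frame. -/
theorem exists_equiv_of_law {C B' : Type u} [CommRing C] [Algebra (FrameRing ι) C] [CommRing B']
    [Algebra C B'] (b : Module.Basis ι C B')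
    (hmul : ∀ i j, b i * b j = ∑ k, algebraMap (FrameRing ι) C ((univLaw ι).c i j k) • b k)
    (hone : (1 : B') = ∑ k, algebraMap (FrameRing ι) C ((univLaw ι).one k) • b k) :
    ∃ e : C ⊗[FrameRing ι] FrameAlg ι ≃ₐ[C] B', ∀ i, e ((1 : C) ⊗ₜ univFrame ι i) = b i := by
  letI : Algebra (FrameRing ι) B' := ((algebraMap C B').comp (algebraMap (FrameRing ι) C)).toAlgebra
  haveI : IsScalarTower (FrameRing ι) C B' := IsScalarTower.of_algebraMap_eq fun _ => rfl
  let l : FrameAlg ι →ₗ[FrameRing ι] B' := (univFrame ι).constr (FrameRing ι) b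
  have hl : ∀ i, l (univFrame ι i) = b i := fun i => Module.Basis.constr_basis _ _ _ _
  let f : FrameAlg ι →ₐ[FrameRing ι] B' := AlgHom.ofLinearMap l (by
      rw [show (1 : FrameAlg ι) = _ from Law.Alg.frame_one (univLaw_valid ι), map_sum]
      simp only [map_smul]
      refine Eq.trans ?_ hone.symm
      exact Finset.sum_congr rfl fun k _ => by rw [← algebraMap_smul C]; exact congrArg _ (hl k)) (by
      have : (LinearMap.mul (FrameRing ι) (FrameAlg ι)).compr₂ l =
          (LinearMap.mul (FrameRing ι) B').compl₁₂ l l := by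
        refine (univFrame ι).ext fun i => (univFrame ι).ext fun j => ?_
        simp only [LinearMap.compr₂_apply, LinearMap.compl₁₂_apply, LinearMap.mul_apply', hl]
        rw [show univFrame ι i * univFrame ι j = _ from Law.Alg.frame_mul (univLaw_valid ι) i j,
          map_sum, hmul]
        refine Finset.sum_congr rfl fun k _ => ?_
        rw [map_smul, ← algebraMap_smul C]
        exact congrArg _ (hl k)
      exact LinearMap.congr_fun₂ this)
  let Φ : C ⊗[FrameRing ι] FrameAlg ι →ₐ[C] B' :=
    Algebra.TensorProduct.lift (Algebra.ofId C B') f fun _ _ => Commute.all _ _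
  have hΦ : ∀ i, Φ ((1 : C) ⊗ₜ univFrame ι i) = b i := fun i => by
    simp only [Φ, Algebra.TensorProduct.lift_tmul, map_one, one_mul]
    exact hl i
  let β := Algebra.TensorProduct.basis C (univFrame ι)
  have hbij : Function.Bijective Φ := by
    have : Φ.toLinearMap = (β.equiv b (Equiv.refl ι)).toLinearMap := β.ext fun i => by
      rw [AlgHom.toLinearMap_apply, LinearEquiv.coe_coe, Module.Basis.equiv_apply, Equiv.refl_apply,
        Algebra.TensorProduct.basis_apply, hΦ]
    show Function.Bijective Φ.toLinearMap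
    rw [this]
    exact (β.equiv b (Equiv.refl ι)).bijective
  exact ⟨AlgEquiv.ofBijective Φ hbij, hΦ⟩

theorem tmul_frame_mul (D : Type u) [CommRing D] [Algebra (FrameRing ι) D] (i j : ι) :
    ((1 : D) ⊗ₜ[FrameRing ι] univFrame ι i) * ((1 : D) ⊗ₜ univFrame ι j) =
      ∑ k, algebraMap (FrameRing ι) D ((univLaw ι).c i j k) • ((1 : D) ⊗ₜ univFrame ι k) := by
  rw [Algebra.TensorProduct.tmul_mul_tmul, one_mul,
    show univFrame ι i * univFrame ι j = _ from Law.Alg.frame_mul (univLaw_valid ι) i j,
    TensorProduct.tmul_sum]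
  refine Finset.sum_congr rfl fun k _ => ?_
  rw [TensorProduct.tmul_smul, algebraMap_smul]
  rfl

theorem tmul_frame_one (D : Type u) [CommRing D] [Algebra (FrameRing ι) D] :
    (1 : D ⊗[FrameRing ι] FrameAlg ι) =
      ∑ k, algebraMap (FrameRing ι) D ((univLaw ι).one k) • ((1 : D) ⊗ₜ univFrame ι k) := by
  rw [Algebra.TensorProduct.one_def,
    show (1 : FrameAlg ι) = _ from Law.Alg.frame_one (univLaw_valid ι), TensorProduct.tmul_sum]
  refine Finset.sum_congr rfl fun k _ => ?_
  rw [TensorProduct.tmul_smul, algebraMap_smul]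
  rfl

/-- Compatible frames have compatible classifying maps. -/
theorem classify_comp {C B' D X : Type u} [CommRing C] [CommRing B'] [Algebra C B'] [CommRing D]
    [CommRing X] [Algebra D X] (b : Module.Basis ι C B') (ψ : FrameRing ι →+* C)
    (hmul : ∀ i j, b i * b j = ∑ k, ψ ((univLaw ι).c i j k) • b k)
    (hone : (1 : B') = ∑ k, ψ ((univLaw ι).one k) • b k)
    (r : C →+* D) (ε : Module.Basis ι D X) (φ : FrameRing ι →+* D)
    (hmul' : ∀ i j, ε i * ε j = ∑ k, φ ((univLaw ι).c i j k) • ε k)
    (hone' : (1 : X) = ∑ k, φ ((univLaw ι).one k) • ε k)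
    (π : B' →+* X) (hπ : π.comp (algebraMap C B') = (algebraMap D X).comp r)
    (hb : ∀ i, π (b i) = ε i) : r.comp ψ = φ := by
  have hsum : ∀ v : ι → C, π (∑ k, v k • b k) = ∑ k, r (v k) • ε k := fun v => by
    simp only [map_sum, Algebra.smul_def, map_mul, hb]
    exact Finset.sum_congr rfl fun k _ => by rw [← RingHom.comp_apply, hπ]; rfl
  have hli : ∀ v w : ι → D, ∑ k, v k • ε k = ∑ k, w k • ε k → v = w := fun v w h =>
    ε.equivFun.symm.injective (by simpa [Module.Basis.equivFun_symm_apply] using h)
  refine frameRing_hom_ext (fun i j k => ?_) fun k => ?_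
  · have h := congrArg π (hmul i j)
    rw [map_mul, hb, hb, hmul', hsum] at h
    exact (congrFun (hli _ _ h) k).symm
  · have h := congrArg π hone
    rw [map_one, hone', hsum] at h
    exact (congrFun (hli _ _ h) k).symm

end Groth.Agent.H14Atlas
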