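import Groth.Agent.H02CA.KoszLift.Basic
import Groth.Agent.H02CA.QuasiFiniteSlice
import Mathlib

/-!
# Flat slices of semilocal localisations

For a local ring `Q` and a `Q`-algebra `E`, a localisation of a flat finitely presented algebra,
all of whose maximal ideals lie over the closed point, a sequence which is regular on the closed
fibre is regular and all its successive quotients are flat.
-/

set_option autoImplicit false
universe u

open RingTheory.Sequence IsLocalRing
open scoped TensorProduct

namespace Groth.Agent.H14Atlas

variable (Q : Type u) [CommRing Q] {E : Type u} [CommRing E] [Algebra Q E]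

/-- All successive quotients by the sequence are flat and each element is regular modulo the
previous ones. -/
structure Good (l : List E) : Prop where
  flat : ∀ i ≤ l.length, Module.Flat Q (E ⧸ Ideal.ofList (l.take i))
  reg : ∀ i (h : i < l.length) (x : E),
    x * l[i] ∈ Ideal.ofList (l.take i) → x ∈ Ideal.ofList (l.take i)

variable {Q}

/-- Clearing denominators in the condition of regularity modulo an ideal. -/
theorem reg_of_isLocalization {P L : Type u} [CommRing P] [CommRing L] [Algebra P L]
    (S : Submonoid P) [IsLocalization S L] (J : Ideal P) (fs : List P)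
    (hreg : ∀ i (h : i < fs.length) (x : P),
      x * fs[i] ∈ J ⊔ Ideal.ofList (fs.take i) → x ∈ J ⊔ Ideal.ofList (fs.take i))
    (i : ℕ) (h : i < (fs.map (algebraMap P L)).length) (x : L)
    (hx : x * (fs.map (algebraMap P L))[i] ∈
      J.map (algebraMap P L) ⊔ Ideal.ofList ((fs.map (algebraMap P L)).take i)) :
    x ∈ J.map (algebraMap P L) ⊔ Ideal.ofList ((fs.map (algebraMap P L)).take i) := by
  have hi : i < fs.length := by simpa using h
  rw [List.getElem_map, ← List.map_take, ← H02CA.Slice.ofList_map, ← Ideal.map_sup] at hx
  rw [← List.map_take, ← H02CA.Slice.ofList_map, ← Ideal.map_sup]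
  obtain ⟨a, t, rfl⟩ := IsLocalization.exists_mk'_eq S x
  rw [mul_comm, IsLocalization.mul_mk'_eq_mk'_of_mul,
    IsLocalization.mk'_mem_map_algebraMap_iff] at hx
  obtain ⟨c, hc, hmem⟩ := hx
  rw [IsLocalization.mk'_mem_map_algebraMap_iff]
  refine ⟨c, hc, hreg i hi (c * a) ?_⟩
  rwa [show c * a * fs[i] = c * (fs[i] * a) by ring]

variable [IsLocalRing Q]

/-- Regularity and flatness after localising at a maximal ideal. -/
theorem slice_at [Algebra.EssFiniteType Q E] [Module.Flat Q E]
    (P : Ideal E) [P.IsPrime] (hP : P.comap (algebraMap Q E) = maximalIdeal Q) (l : List E)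
    (hreg : ∀ i (h : i < l.length) (x : E),
      x * l[i] ∈ (maximalIdeal Q).map (algebraMap Q E) ⊔ Ideal.ofList (l.take i) →
        x ∈ (maximalIdeal Q).map (algebraMap Q E) ⊔ Ideal.ofList (l.take i)) :
    IsWeaklyRegular (Localization.AtPrime P) (l.map (algebraMap E (Localization.AtPrime P))) ∧
      ∀ i ≤ l.length, Module.Flat Q (Localization.AtPrime P ⧸
        (Ideal.ofList (l.take i)).map (algebraMap E (Localization.AtPrime P))) := by
  let L := Localization.AtPrime P
  haveI : Algebra.EssFiniteType E L := Algebra.EssFiniteType.of_isLocalization L P.primeCompl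
  haveI : Algebra.EssFiniteType Q L := Algebra.EssFiniteType.comp Q E L
  haveI : IsLocalHom (algebraMap Q L) := by
    refine ⟨fun a ha => ?_⟩
    rw [IsScalarTower.algebraMap_apply Q E L, IsLocalization.AtPrime.isUnit_to_map_iff L P] at ha
    by_contra hu
    exact ha ((hP.symm.le : maximalIdeal Q ≤ _) ((mem_maximalIdeal a).2 hu))
  haveI : Module.Flat E L := IsLocalization.flat L P.primeCompl
  haveI : Module.Flat Q L := Module.Flat.trans Q E L
  let lL := l.map (algebraMap E L)
  have hfib : IsWeaklyRegular (L ⧸ H02CA.KoszLift.mA Q L • (⊤ : Submodule L L)) lL := by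
    rw [H02CA.Slice.weaklyRegular_quot_iff]
    intro i hi x hx
    have hm : H02CA.KoszLift.mA Q L = ((maximalIdeal Q).map (algebraMap Q E)).map (algebraMap E L) := by
      rw [Ideal.map_map, ← IsScalarTower.algebraMap_eq]
    rw [hm] at hx ⊢
    exact reg_of_isLocalization P.primeCompl _ l hreg i hi x hx
  refine ⟨(H02CA.KoszLift.slice (R := Q) lL L hfib).1, fun i hi => ?_⟩
  have hpre : IsWeaklyRegular (L ⧸ H02CA.KoszLift.mA Q L • (⊤ : Submodule L L)) (lL.take i) := by
    have h := hfib
    rw [← List.take_append_drop i lL, isWeaklyRegular_append_iff] at h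
    exact h.1
  have h2 := (H02CA.KoszLift.slice (R := Q) (lL.take i) L hpre).2
  have heq : (Ideal.ofList (lL.take i) • ⊤ : Submodule L L) =
      (Ideal.ofList (l.take i)).map (algebraMap E L) := by
    rw [H02CA.Slice.ofList_map, List.map_take]
    simp [lL]
  exact Module.Flat.of_linearEquiv ((Submodule.quotEquivOfEq _ _ heq).restrictScalars Q).symm

/-- A sequence regular on the closed fibre is good. -/
theorem good_of_fibre [Algebra.EssFiniteType Q E] [Module.Flat Q E]
    (hmax : ∀ P : Ideal E, P.IsMaximal → P.comap (algebraMap Q E) = maximalIdeal Q) (l : List E)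
    (hreg : ∀ i (h : i < l.length) (x : E),
      x * l[i] ∈ (maximalIdeal Q).map (algebraMap Q E) ⊔ Ideal.ofList (l.take i) →
        x ∈ (maximalIdeal Q).map (algebraMap Q E) ⊔ Ideal.ofList (l.take i)) :
    Good Q l := by
  refine ⟨fun i hi => ?_, fun i hi x hx => ?_⟩
  · let I : Submodule E E := Ideal.ofList (l.take i)
    refine Module.flat_of_isLocalized_maximal (R := Q) (S := E) (M := E ⧸ I)
      (fun (P : Ideal E) hP => haveI := hP; Localization.AtPrime P ⧸
        Submodule.localized' (Localization.AtPrime P) P.primeCompl
          (Algebra.linearMap E (Localization.AtPrime P)) I)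
      (fun (P : Ideal E) hP => haveI := hP; Submodule.toLocalizedQuotient' (Localization.AtPrime P) P.primeCompl
          (Algebra.linearMap E (Localization.AtPrime P)) I) fun P hP => ?_
    haveI := hP
    have h := (slice_at P (hmax P hP) l hreg).2 i hi
    exact Module.Flat.of_linearEquiv ((Submodule.quotEquivOfEq _ _
      (Ideal.localized'_eq_map _ P.primeCompl _)).restrictScalars Q)
  · refine Ideal.mem_of_localization_maximal fun P hP => ?_
    have h := (slice_at P (hmax P hP) l hreg).1
    rw [isWeaklyRegular_iff] at h
    have hi' : i < (l.map (algebraMap E (Localization.AtPrime P))).length := by simpa using hi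
    have hr := h i hi'
    rw [isSMulRegular_iff_right_eq_zero_of_smul] at hr
    have key : ∀ y : Localization.AtPrime P,
        y ∈ (Ideal.ofList ((l.map (algebraMap E (Localization.AtPrime P))).take i) •
          ⊤ : Submodule (Localization.AtPrime P) (Localization.AtPrime P)) ↔
        y ∈ (Ideal.ofList (l.take i)).map (algebraMap E (Localization.AtPrime P)) := by
      intro y
      rw [H02CA.Slice.ofList_map, List.map_take]
      simp
    rw [← key, ← Submodule.Quotient.mk_eq_zero]
    refine hr _ ?_
    rw [← Submodule.Quotient.mk_smul, Submodule.Quotient.mk_eq_zero, key, List.getElem_map,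
      smul_eq_mul, ← map_mul, mul_comm]
    exact Ideal.mem_map_of_mem _ hx

end Groth.Agent.H14Atlas
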