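import Groth.Agent.H14Atlas.SemiLocal
import Groth.Agent.H06Flat.NilpotentCover

/-!
# Lifting finite free slices over square-zero extensions
-/

set_option autoImplicit false
set_option linter.style.haveILetI false
set_option backward.isDefEq.respectTransparency false
set_option backward.isDefEq.respectTransparency.types false
universe u

open IsLocalRing
open scoped TensorProduct

namespace Groth.Agent.H14Atlas

variable {R A Q B : Type u} [CommRing R] [CommRing A] [Algebra R A] [CommRing Q] [Algebra R Q]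
  [CommRing B] [Algebra Q B] [Algebra R B] [IsScalarTower R Q B]

variable {C D : Type u} [CommRing C] [CommRing D] [Algebra C D] [Algebra Q D] [SMulCommClass Q C D]
  [Algebra R C] [Algebra R D] [IsScalarTower R C D] [IsScalarTower R Q D]

/-- The map from `C ⊗ A` to `D ⊗ (Q ⊗ A)`. -/
noncomputable def redMap : C ⊗[R] A →ₐ[C] D ⊗[Q] (Q ⊗[R] A) :=
  ((Algebra.TensorProduct.cancelBaseChange R Q D D A).symm.toAlgHom.restrictScalars C).comp
    (Algebra.TensorProduct.map (Algebra.ofId C D) (AlgHom.id R A))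

theorem redMap_tmul (c : C) (a : A) :
    (redMap : C ⊗[R] A →ₐ[C] D ⊗[Q] (Q ⊗[R] A)) (c ⊗ₜ a) =
      algebraMap C D c ⊗ₜ[Q] ((1 : Q) ⊗ₜ[R] a) := by
  show (Algebra.TensorProduct.cancelBaseChange R Q D D A).symm (algebraMap C D c ⊗ₜ[R] a) = _
  rw [AlgEquiv.symm_apply_eq, Algebra.TensorProduct.cancelBaseChange_tmul, one_smul]

theorem redMap_surjective (hD : Function.Surjective (algebraMap C D)) :
    Function.Surjective (redMap : C ⊗[R] A →ₐ[C] D ⊗[Q] (Q ⊗[R] A)) :=
  (Algebra.TensorProduct.cancelBaseChange R Q D D A).symm.surjective.comp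
    (Algebra.TensorProduct.map_surjective _ _ hD fun x => ⟨x, rfl⟩)

theorem ker_redMap (hD : Function.Surjective (algebraMap C D)) :
    RingHom.ker (redMap : C ⊗[R] A →ₐ[C] D ⊗[Q] (Q ⊗[R] A)) =
      (RingHom.ker (algebraMap C D)).map (algebraMap C (C ⊗[R] A)) := by
  have h := Algebra.TensorProduct.rTensor_ker (R := R) (S := C) (C := A) (Algebra.ofId C D) hD
  refine Eq.trans ?_ h
  ext x
  rw [RingHom.mem_ker, RingHom.mem_ker]
  exact map_eq_zero_iff _ (Algebra.TensorProduct.cancelBaseChange R Q D D A).symm.injective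

/-- The kernel of the map into the localised base change. -/
theorem exists_mul_eq_zero {P : Type u} [CommRing P] [Algebra Q P] (S : Submonoid P) {E : Type u}
    [CommRing E] [Algebra P E] [Algebra Q E] [IsScalarTower Q P E] [IsLocalization S E]
    (y : D ⊗[Q] P) (hy : Algebra.TensorProduct.map (AlgHom.id D D) (IsScalarTower.toAlgHom Q P E) y = 0) :
    ∃ t ∈ S, (1 : D) ⊗ₜ[Q] t * y = 0 := by
  let M : Submonoid (D ⊗[Q] P) :=
    S.map (Algebra.TensorProduct.includeRight : P →ₐ[Q] D ⊗[Q] P).toRingHom.toMonoidHom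
  let L := Localization M
  let f : P →ₐ[Q] L := (IsScalarTower.toAlgHom Q (D ⊗[Q] P) L).comp Algebra.TensorProduct.includeRight
  have hu : ∀ t : S, IsUnit (f t) := fun t => IsLocalization.map_units L (⟨_, (t : P), t.2, rfl⟩ : M)
  let g : E →ₐ[Q] L := IsLocalization.liftAlgHom (M := S) (f := f) hu
  let k : D ⊗[Q] E →ₐ[D] L := Algebra.TensorProduct.lift (Algebra.ofId D L) g fun _ _ => Commute.all _ _
  have hk : k.comp (Algebra.TensorProduct.map (AlgHom.id D D) (IsScalarTower.toAlgHom Q P E)) =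
      IsScalarTower.toAlgHom D (D ⊗[Q] P) L := by
    refine Algebra.TensorProduct.ext (Subsingleton.elim _ _) (AlgHom.ext fun p => ?_)
    show k ((1 : D) ⊗ₜ[Q] algebraMap P E p) = algebraMap (D ⊗[Q] P) L ((1 : D) ⊗ₜ[Q] p)
    simp only [k, Algebra.TensorProduct.lift_tmul, map_one, one_mul]
    exact IsLocalization.lift_eq _ p
  have h0 : algebraMap (D ⊗[Q] P) L y = 0 := by
    rw [← IsScalarTower.toAlgHom_apply D, ← hk, AlgHom.comp_apply, hy, map_zero]
  obtain ⟨⟨_, t, ht, rfl⟩, h⟩ := (IsLocalization.map_eq_zero_iff M L y).1 h0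
  exact ⟨t, ht, h⟩

theorem map_ofList' {X Y F : Type u} [Semiring X] [Semiring Y] [FunLike F X Y] [RingHomClass F X Y]
    (f : F) (l : List X) : (Ideal.ofList l).map f = Ideal.ofList (l.map f) := by
  rw [Ideal.ofList, Ideal.map_span, Ideal.ofList]
  congr 1
  ext y
  simp

variable [IsLocalRing Q] [Module.Finite Q B] [Module.Free Q B] [Algebra.FinitePresentation R A]
  [Module.Flat R A]

set_option maxHeartbeats 1600000 in
/-- A finite free slice lifts over square-zero extensions. -/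
theorem exists_lift (z : A →ₐ[R] B)
    (hz : ∀ b : B, ∃ a : Q ⊗[R] A, extZ z a - b ∈ (maximalIdeal Q).map (algebraMap Q B))
    (fs : List (Q ⊗[R] A)) (hfs : ∀ f ∈ fs, extZ z f ∈ (maximalIdeal Q).map (algebraMap Q B))
    (hker : ∀ a, extZ z a ∈ (maximalIdeal Q).map (algebraMap Q B) →
      a ∈ (maximalIdeal Q).map (algebraMap Q (Q ⊗[R] A)) ⊔ Ideal.ofList fs)
    (hreg : ∀ i (h : i < fs.length) (x : Q ⊗[R] A),
      x * fs[i] ∈ (maximalIdeal Q).map (algebraMap Q (Q ⊗[R] A)) ⊔ Ideal.ofList (fs.take i) →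
        x ∈ (maximalIdeal Q).map (algebraMap Q (Q ⊗[R] A)) ⊔ Ideal.ofList (fs.take i))
    (hD : Function.Surjective (algebraMap C D))
    (hN : ∀ a ∈ RingHom.ker (algebraMap C D), ∀ b ∈ RingHom.ker (algebraMap C D), a * b = 0)
    {ι : Type u} (b : Module.Basis ι Q B) :
    ∃ (B' : Type u) (_ : CommRing B') (_ : Algebra C B') (z' : A →+* B') (π : B' →ₐ[C] D ⊗[Q] B)
      (b' : Module.Basis ι C B'),
      z'.comp (algebraMap R A) = (algebraMap C B').comp (algebraMap R C) ∧
        (∀ a, π (z' a) = (1 : D) ⊗ₜ[Q] z a) ∧ ∀ i, π (b' i) = (1 : D) ⊗ₜ[Q] b i := by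
  classical
  obtain ⟨hE, l, hgood, hl⟩ := exists_good z hz fs hfs hker hreg
  let E := semiRing (Q := Q) z
  let S : Submonoid (Q ⊗[R] A) := unitsIn (Q := Q) z
  let p : C ⊗[R] A →ₐ[C] D ⊗[Q] (Q ⊗[R] A) := redMap
  have hp : Function.Surjective p := redMap_surjective hD
  have hpk := ker_redMap (R := R) (A := A) (Q := Q) hD
  let j : D ⊗[Q] (Q ⊗[R] A) →ₐ[D] D ⊗[Q] E :=
    Algebra.TensorProduct.map (AlgHom.id D D) (IsScalarTower.toAlgHom Q (Q ⊗[R] A) E)
  let S' : Submonoid (C ⊗[R] A) :=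
    (S.map (Algebra.TensorProduct.includeRight :
      Q ⊗[R] A →ₐ[Q] D ⊗[Q] (Q ⊗[R] A)).toRingHom.toMonoidHom).comap p.toRingHom.toMonoidHom
  let E' := Localization S'
  haveI : Module.Flat (C ⊗[R] A) E' := IsLocalization.flat _ S'
  haveI : Module.Flat C E' := Module.Flat.trans C (C ⊗[R] A) _
  have hS' : ∀ t : S', IsUnit (((j.restrictScalars C).comp p) t) := by
    rintro ⟨t, s, hs, hst⟩
    show IsUnit (j (p t))
    rw [show p t = (1 : D) ⊗ₜ[Q] s from hst.symm]
    exact (IsLocalization.map_units E ⟨s, hs⟩).map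
      (Algebra.TensorProduct.includeRight : E →ₐ[Q] D ⊗[Q] E)
  let π₀ : E' →ₐ[C] D ⊗[Q] E :=
    IsLocalization.liftAlgHom (A := C) (S := E') (P := D ⊗[Q] E) (M := S') (f := (j.restrictScalars C).comp p) hS'
  have hπ₀ : ∀ x, π₀ (algebraMap _ E' x) = j (p x) := fun x => IsLocalization.lift_eq _ x
  have hπsurj : Function.Surjective π₀ := by
    intro y
    induction y using TensorProduct.induction_on with
    | zero => exact ⟨0, map_zero _⟩
    | add y y' hy hy' =>
      obtain ⟨x, rfl⟩ := hy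
      obtain ⟨x', rfl⟩ := hy'
      exact ⟨x + x', map_add _ _ _⟩
    | tmul d e =>
      obtain ⟨a, t, rfl⟩ := IsLocalization.exists_mk'_eq S e
      obtain ⟨c, rfl⟩ := hD d
      obtain ⟨a', ha'⟩ := hp ((1 : D) ⊗ₜ[Q] a)
      obtain ⟨t', ht'⟩ := hp ((1 : D) ⊗ₜ[Q] (t : Q ⊗[R] A))
      have htS : t' ∈ S' := ⟨t, t.2, ht'.symm⟩
      refine ⟨algebraMap C E' c * IsLocalization.mk' E' a' ⟨t', htS⟩, ?_⟩
      have hu : IsUnit (π₀ (algebraMap _ E' t')) := by
        rw [hπ₀]
        exact hS' ⟨t', htS⟩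
      have h1 : π₀ (IsLocalization.mk' E' a' ⟨t', htS⟩) =
          (1 : D) ⊗ₜ[Q] IsLocalization.mk' E a t := by
        apply hu.mul_right_cancel
        rw [← map_mul, IsLocalization.mk'_spec E' a' ⟨t', htS⟩, hπ₀, hπ₀, ha', ht']
        simp only [j, Algebra.TensorProduct.map_tmul, IsScalarTower.toAlgHom_apply, map_one,
          Algebra.TensorProduct.tmul_mul_tmul, mul_one, IsLocalization.mk'_spec]
      rw [map_mul, h1, AlgHom.commutes, Algebra.TensorProduct.algebraMap_apply,
        Algebra.TensorProduct.tmul_mul_tmul, mul_one, one_mul]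
  have hπker : RingHom.ker π₀ = (RingHom.ker (algebraMap C D)).map (algebraMap C E') := by
    refine le_antisymm (fun x hx => ?_) (Ideal.map_le_iff_le_comap.2 fun c hc => ?_)
    · obtain ⟨a, t, rfl⟩ := IsLocalization.exists_mk'_eq S' x
      have h0 : j (p a) = 0 := by
        rw [← hπ₀, ← IsLocalization.mk'_spec E' a t, map_mul, RingHom.mem_ker.1 hx, zero_mul]
      obtain ⟨s, hs, hs0⟩ := exists_mul_eq_zero (D := D) S (p a) h0
      obtain ⟨s', hs'⟩ := hp ((1 : D) ⊗ₜ[Q] s)
      rw [IsScalarTower.algebraMap_eq C (C ⊗[R] A) E', ← Ideal.map_map,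
        IsLocalization.mk'_mem_map_algebraMap_iff S', ← hpk]
      refine ⟨s', ⟨s, hs, hs'.symm⟩, ?_⟩
      show p (s' * a) = 0
      rw [map_mul, hs', hs0]
    · rw [Ideal.mem_comap, RingHom.mem_ker, AlgHom.commutes,
        Algebra.TensorProduct.algebraMap_apply, RingHom.mem_ker.1 hc, TensorProduct.zero_tmul]
  have hN2 : IsNilpotent (RingHom.ker (algebraMap C D)) := ⟨2, by
    rw [pow_two]
    exact le_antisymm (Ideal.mul_le.2 fun a ha b hb => by rw [hN a ha b hb]; exact zero_mem _) bot_le⟩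
  choose sec hsec using fun e : E => hπsurj ((1 : D) ⊗ₜ[Q] e)
  let l' := l.map sec
  have hll : l'.map π₀ = l.map (Algebra.TensorProduct.includeRight : E →ₐ[Q] D ⊗[Q] E) := by
    rw [List.map_map]
    exact List.map_congr_left fun e _ => hsec e
  have hflat := flat_lift hD hN2 π₀ hπsurj hπker hgood l' hll l.length le_rfl
  rw [List.take_of_length_le (by simp [l'])] at hflat
  let J : Ideal E' := Ideal.ofList l'
  haveI : Module.Flat C (E' ⧸ J) := hflat
  let ψ : D ⊗[Q] E →ₐ[D] D ⊗[Q] B := Algebra.TensorProduct.map (AlgHom.id D D) (semiMap z)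
  have hψker : ∀ y, ψ y = 0 ↔
      y ∈ (Ideal.ofList l).map (Algebra.TensorProduct.includeRight : E →ₐ[Q] D ⊗[Q] E) := by
    intro y
    rw [← hl, ← Algebra.TensorProduct.lTensor_ker (A := D) (semiMap z) hE]
    rfl
  have hmapJ : J.map π₀ = (Ideal.ofList l).map (Algebra.TensorProduct.includeRight : E →ₐ[Q] D ⊗[Q] E) := by
    rw [map_ofList', map_ofList']
    exact congrArg Ideal.ofList hll
  let π₁ : E' →ₐ[C] D ⊗[Q] B := (ψ.restrictScalars C).comp π₀
  have hπ₁ : ∀ x, π₁ x = 0 ↔ x ∈ J ⊔ RingHom.ker π₀ := fun x => by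
    refine (hψker (π₀ x)).trans ?_
    rw [← hmapJ, ← Ideal.mem_comap, Ideal.comap_map_of_surjective π₀ hπsurj J]
    rfl
  have hψsurj : Function.Surjective ψ :=
    Algebra.TensorProduct.map_surjective (AlgHom.id D D) (semiMap z) (fun x => ⟨x, rfl⟩) hE
  have hπ₁surj : Function.Surjective π₁ := hψsurj.comp hπsurj
  let π : (E' ⧸ J) →ₐ[C] D ⊗[Q] B :=
    Ideal.Quotient.liftₐ J π₁ fun x hx => (hπ₁ x).2 (Submodule.mem_sup_left hx)
  let z' : A →+* (E' ⧸ J) := (Ideal.Quotient.mk J).comp ((algebraMap (C ⊗[R] A) E').comp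
    (Algebra.TensorProduct.includeRight : A →ₐ[R] C ⊗[R] A).toRingHom)
  let e := Algebra.TensorProduct.basis D b
  choose v hv using fun i => show ∃ x : E' ⧸ J, π x = e i from
    ⟨Ideal.Quotient.mk J (hπ₁surj (e i)).choose, (hπ₁surj (e i)).choose_spec⟩
  let φ : (ι →₀ C) →ₗ[C] (E' ⧸ J) := Finsupp.linearCombination C v
  have hπlin : ∀ c : ι →₀ C, π (φ c) = Finsupp.linearCombination D e (c.mapRange _ (map_zero (algebraMap C D))) := by
    intro c
    induction c using Finsupp.induction_linear with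
    | zero => simp
    | add u w hu hw =>
      rw [map_add, map_add, hu, hw, Finsupp.mapRange_add (map_add _), map_add]
    | single i a =>
      rw [Finsupp.mapRange_single, Finsupp.linearCombination_single]
      simp only [φ, Finsupp.linearCombination_single, map_smul, hv, algebraMap_smul]
  have hkerπ : ∀ x, π x = 0 → x ∈ RingHom.ker (algebraMap C D) • (⊤ : Submodule C (E' ⧸ J)) := by
    intro x hx
    obtain ⟨x, rfl⟩ := Ideal.Quotient.mk_surjective x
    obtain ⟨u, hu, w, hw, rfl⟩ := Submodule.mem_sup.1 ((hπ₁ x).1 hx)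
    rw [hπker] at hw
    rw [map_add, Ideal.Quotient.eq_zero_iff_mem.2 hu, zero_add]
    have h1 : w ∈ RingHom.ker (algebraMap C D) • (⊤ : Submodule C E') := by
      rw [Ideal.smul_top_eq_map]; exact hw
    have h2 := Submodule.mem_map_of_mem (f := (Ideal.Quotient.mkₐ C J).toLinearMap) h1
    rw [Submodule.map_smul''] at h2
    exact Submodule.smul_mono le_rfl le_top h2
  have hgen : ∀ x, ∃ c, x - φ c ∈ RingHom.ker (algebraMap C D) • (⊤ : Submodule C (E' ⧸ J)) := by
    intro x
    obtain ⟨c, hc⟩ := Finsupp.mapRange_surjective _ (map_zero (algebraMap C D)) hD (e.repr (π x))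
    refine ⟨c, hkerπ _ ?_⟩
    rw [map_sub, hπlin, hc, sub_eq_zero]
    exact (e.linearCombination_repr _).symm
  have hφ : Function.Surjective φ := by
    refine LinearMap.range_eq_top.1 (top_unique fun x _ => ?_)
    obtain ⟨c, hc⟩ := hgen x
    have h2 : RingHom.ker (algebraMap C D) • (⊤ : Submodule C (E' ⧸ J)) ≤ LinearMap.range φ := by
      refine Submodule.smul_le.2 fun r hr y _ => ?_
      obtain ⟨d, hd⟩ := hgen y
      have h0 : r • (y - φ d) = 0 := by
        refine Submodule.smul_induction_on hd (fun s hs w _ => by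
          rw [smul_smul, hN r hr s hs, zero_smul]) fun a b ha hb => by rw [smul_add, ha, hb, add_zero]
      refine ⟨r • d, ?_⟩
      rw [map_smul, eq_comm, ← sub_eq_zero, ← smul_sub, h0]
    exact sub_add_cancel x (φ c) ▸ add_mem (h2 hc) ⟨c, rfl⟩
  have hφker : LinearMap.ker φ ≤ RingHom.ker (algebraMap C D) • ⊤ := by
    intro c hc
    have h := hπlin c
    rw [LinearMap.mem_ker.1 hc, map_zero] at h
    have h' : c.mapRange _ (map_zero (algebraMap C D)) = 0 :=
      linearIndependent_iff.1 e.linearIndependent _ h.symm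
    rw [← c.sum_single]
    refine Submodule.sum_mem _ fun i _ => ?_
    have hi : c i ∈ RingHom.ker (algebraMap C D) := RingHom.mem_ker.2 (by
      simpa using DFunLike.congr_fun h' i)
    rw [show (Finsupp.single i (c i) : ι →₀ C) = c i • Finsupp.single i (1 : C) by simp]
    exact Submodule.smul_mem_smul hi Submodule.mem_top
  have hbij := H06Flat.injective_of_family hN2 φ hφ hφker (fun _ : PUnit.{u + 1} => C)
    (fun a ha => ha PUnit.unit)
    fun _ => Module.Flat.of_linearEquiv (TensorProduct.lid C (E' ⧸ J))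
  refine ⟨E' ⧸ J, inferInstance, inferInstance, z', π,
    Module.Basis.ofRepr (LinearEquiv.ofBijective φ hbij).symm, ?_, fun a => ?_, fun i => ?_⟩
  · refine RingHom.ext fun r => ?_
    show Ideal.Quotient.mk J (algebraMap (C ⊗[R] A) E' ((1 : C) ⊗ₜ[R] algebraMap R A r)) =
      Ideal.Quotient.mk J (algebraMap C E' (algebraMap R C r))
    rw [IsScalarTower.algebraMap_apply C (C ⊗[R] A) E', Algebra.TensorProduct.algebraMap_apply]
    congr 2
    rw [Algebra.algebraMap_eq_smul_one, TensorProduct.tmul_smul, TensorProduct.smul_tmul',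
      ← Algebra.algebraMap_eq_smul_one]
    rfl
  · show ψ (π₀ (algebraMap (C ⊗[R] A) E' ((1 : C) ⊗ₜ[R] a))) = _
    rw [hπ₀, show p ((1 : C) ⊗ₜ[R] a) = _ from redMap_tmul 1 a, map_one]
    simp only [j, ψ, Algebra.TensorProduct.map_tmul, IsScalarTower.toAlgHom_apply, map_one,
      AlgHom.id_apply]
    exact congrArg ((1 : D) ⊗ₜ[Q] ·) ((semiMap_algebraMap z _).trans (extZ_one_tmul z a))
  · rw [Module.Basis.coe_ofRepr]
    show π (φ (Finsupp.single i 1)) = _
    rw [show φ (Finsupp.single i 1) = v i by simp [φ], hv]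
    exact Algebra.TensorProduct.basis_apply _ _

end Groth.Agent.H14Atlas
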