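import Groth.Agent.H14Atlas.Chart
import Groth.Agent.H14Quot.AutPoint

/-!
# The quotient stack of an action of a flat affine group of finite presentation is algebraic
-/

set_option autoImplicit false
set_option backward.isDefEq.respectTransparency false
set_option backward.isDefEq.respectTransparency.types false
universe u

open CategoryTheory CategoryTheory.Limits AlgebraicGeometry MonoidalCategory CartesianMonoidalCategory
open AlgSt

namespace Groth.Agent.H14Atlas

open H14Fib H14Stk H14AlgSt H12AlgSp H14Quot

local notation "K₀" => Scheme.fppfPrecoverage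

variable {S : Scheme.{u}} (G : Over S) [GrpObj G] {X : Over S} (aX : AlgGrp.Action G X)

/-- Forgetting the equivariant map. -/
noncomputable def forgetMap : QuotSt K₀ G aX ⥤ᵇ BG K₀ G where
  toFunctor :=
    { obj := fun A =>
        { base := A.base, P := A.P, act := A.act, π := A.π, cart := A.cart, loc := A.loc
          φ := toUnit _, eqv := toUnit_unique _ _ }
      map := fun f => ⟨f.base, f.top, f.eqv, f.cart, toUnit_unique _ _⟩ }
  w := rfl

instance : (forgetMap G aX).toFunctor.Faithful :=
  ⟨fun {_ _} _ _ h => QuotObj.hom_ext (congrArg (fun t => t.base) h) (congrArg (fun t => t.top) h)⟩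

/-- The quotient stack is algebraic. -/
theorem isAlgStack_quot [IsAffineHom G.hom] [Flat G.hom] [LocallyOfFinitePresentation G.hom] :
    IsAlgStack K₀ (QuotSt K₀ G aX) := by
  have hW : Stk.IsStack (AlgSp.J S) (QuotSt K₀ G aX) := isStack_quotSt le_rfl inferInstance
  have hY := isAlgStack_BG G
  exact isAlgStack_of_rep1 hW.1 hY
    (repByAlgSp1_of_chart hW hY.isStack hY.diag (forgetMap G aX) (atlas K₀ G aX)
      (repWith_atlas_surjective le_rfl)
      (repWith_atlas_locP @Flat etLocal_flat le_rfl inferInstance)
      (repWith_atlas_locP @LocallyOfFinitePresentation etLocal_lfp le_rfl inferInstance))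

end Groth.Agent.H14Atlas
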