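import Mathlib

/-!
# Sections along a cover, cocycles, and the torsor of cocycles

In a cartesian category with pullbacks, for a morphism `ρ : Z ⟶ W` and an object `Y` a
representing object of `T ↦ (a : T ⟶ W, pullback a ρ ⟶ Y)` is used elementwise: an element is a
pair of morphisms `p : P ⟶ T`, `q : P ⟶ Z` over the same morphism to `W`.
-/

set_option autoImplicit false
set_option backward.isDefEq.respectTransparency false
set_option backward.isDefEq.respectTransparency.types false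
universe v u

open CategoryTheory CategoryTheory.Limits MonoidalCategory CartesianMonoidalCategory MonObj GrpObj

namespace Groth.Agent.H14Atlas

variable {𝒞 : Type u} [Category.{v} 𝒞] [HasPullbacks 𝒞] {Z W : 𝒞}

/-- A representing object of the sections along `ρ` with values in `Y`. -/
structure Res (ρ : Z ⟶ W) (Y : 𝒞) where
  /-- the object -/
  obj : 𝒞
  /-- the map to the base -/
  base : obj ⟶ W
  /-- the universal section -/
  val : pullback base ρ ⟶ Y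
  univ : ∀ {T : 𝒞} (a : T ⟶ W) (z : pullback a ρ ⟶ Y),
    ∃! h : T ⟶ obj, ∃ e : h ≫ base = a,
      pullback.map a ρ base ρ h (𝟙 Z) (𝟙 W) (by rw [Category.comp_id, e]) (by simp) ≫ val = z

namespace Res

variable {ρ : Z ⟶ W} {Y : 𝒞} (M : Res ρ Y)

/-- The value of a point at an element. -/
noncomputable def ev {T P : 𝒞} (h : T ⟶ M.obj) (p : P ⟶ T) (q : P ⟶ Z)
    (w : (p ≫ h) ≫ M.base = q ≫ ρ) : P ⟶ Y :=
  pullback.lift (p ≫ h) q w ≫ M.val

theorem ev_comp_left {T P P' : 𝒞} (r : P' ⟶ P) (h : T ⟶ M.obj) (p : P ⟶ T) (q : P ⟶ Z)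
    (w : (p ≫ h) ≫ M.base = q ≫ ρ) :
    r ≫ M.ev h p q w = M.ev h (r ≫ p) (r ≫ q) (by simp only [Category.assoc] at w ⊢; rw [w]) := by
  rw [ev, ev, ← Category.assoc]
  congr 1
  apply pullback.hom_ext <;> simp

theorem ev_congr {T T' P : 𝒞} {h : T ⟶ M.obj} {h' : T' ⟶ M.obj} {p : P ⟶ T} {p' : P ⟶ T'} {q q' : P ⟶ Z}
    (hh : p ≫ h = p' ≫ h') (hq : q = q') (w : (p ≫ h) ≫ M.base = q ≫ ρ) :
    M.ev h p q w = M.ev h' p' q' (hh ▸ hq ▸ w) := by
  subst hq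
  rw [ev, ev]
  congr 1
  apply pullback.hom_ext <;> simp [hh]

theorem ev_comp_point {T T' P : 𝒞} (k : T' ⟶ T) (h : T ⟶ M.obj) (p : P ⟶ T') (q : P ⟶ Z)
    (w : (p ≫ k ≫ h) ≫ M.base = q ≫ ρ) :
    M.ev (k ≫ h) p q w = M.ev h (p ≫ k) q (by simpa using w) := by
  rw [ev, ev]
  congr 1
  apply pullback.hom_ext <;> simp

theorem hom_ext {T : 𝒞} {h h' : T ⟶ M.obj} (hb : h ≫ M.base = h' ≫ M.base)
    (hv : ∀ {P : 𝒞} (p : P ⟶ T) (q : P ⟶ Z) (w : (p ≫ h) ≫ M.base = q ≫ ρ),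
      M.ev h p q w = M.ev h' p q (by rw [Category.assoc, ← hb, ← Category.assoc, w])) : h = h' := by
  obtain ⟨k, -, hk⟩ := M.univ (h ≫ M.base)
    (M.ev h (pullback.fst _ _) (pullback.snd _ _) (by rw [Category.assoc, pullback.condition]))
  refine (hk h ⟨rfl, ?_⟩).trans (hk h' ⟨hb.symm, ?_⟩).symm
  · rw [ev]
    congr 1
    apply pullback.hom_ext <;> simp
  · rw [hv, ev]
    congr 1
    apply pullback.hom_ext <;> simp

/-- The point with a prescribed value. -/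
noncomputable def pt {T : 𝒞} (a : T ⟶ W) (z : pullback a ρ ⟶ Y) : T ⟶ M.obj :=
  (M.univ a z).exists.choose

@[simp]
theorem pt_base {T : 𝒞} (a : T ⟶ W) (z : pullback a ρ ⟶ Y) : M.pt a z ≫ M.base = a :=
  (M.univ a z).exists.choose_spec.choose

theorem ev_pt {T P : 𝒞} (a : T ⟶ W) (z : pullback a ρ ⟶ Y) (p : P ⟶ T) (q : P ⟶ Z)
    (w : (p ≫ M.pt a z) ≫ M.base = q ≫ ρ) :
    M.ev (M.pt a z) p q w = pullback.lift p q (by rwa [Category.assoc, pt_base] at w) ≫ z := by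
  have h := (M.univ a z).exists.choose_spec.choose_spec
  refine Eq.trans ?_ (congrArg (pullback.lift p q _ ≫ ·) h)
  show _ = pullback.lift p q _ ≫ _ ≫ M.val
  rw [ev, ← Category.assoc]
  congr 1
  apply pullback.hom_ext <;> simp [pt]

end Res

variable [CartesianMonoidalCategory 𝒞]

/-- The double cover. -/
noncomputable abbrev ρ₂ (ρ : Z ⟶ W) : pullback ρ ρ ⟶ W := pullback.fst ρ ρ ≫ ρ

/-- The triple cover. -/
noncomputable abbrev Z₃ (ρ : Z ⟶ W) : 𝒞 := pullback (pullback.snd ρ ρ) (pullback.fst ρ ρ)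

/-- The projection of the triple cover. -/
noncomputable abbrev ρ₃ (ρ : Z ⟶ W) : Z₃ ρ ⟶ W := pullback.fst _ _ ≫ ρ₂ ρ

theorem pr13_w (ρ : Z ⟶ W) :
    (pullback.fst (pullback.snd ρ ρ) (pullback.fst ρ ρ) ≫ pullback.fst ρ ρ) ≫ ρ =
      (pullback.snd (pullback.snd ρ ρ) (pullback.fst ρ ρ) ≫ pullback.snd ρ ρ) ≫ ρ := by
  simp only [Category.assoc, pullback.condition]
  rw [← Category.assoc, pullback.condition, Category.assoc, pullback.condition]

/-- The outer projection of the triple cover. -/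
noncomputable abbrev pr13 (ρ : Z ⟶ W) : Z₃ ρ ⟶ pullback ρ ρ :=
  pullback.lift _ _ (pr13_w ρ)

variable {ρ : Z ⟶ W} {G : 𝒞} [GrpObj G]
variable (M : Res ρ G) (M₂ : Res (ρ₂ ρ) G) (M₃ : Res (ρ₃ ρ) G)

/-- Translation of a point. -/
noncomputable def smul {T : 𝒞} (g : T ⟶ G) (h : T ⟶ M.obj) : T ⟶ M.obj :=
  M.pt (h ≫ M.base) ((pullback.fst _ _ ≫ g) *
    M.ev h (pullback.fst _ _) (pullback.snd _ _) (by rw [Category.assoc, pullback.condition]))

theorem smul_base {T : 𝒞} (g : T ⟶ G) (h : T ⟶ M.obj) : smul M g h ≫ M.base = h ≫ M.base :=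
  M.pt_base _ _

theorem ev_smul {T P : 𝒞} (g : T ⟶ G) (h : T ⟶ M.obj) (p : P ⟶ T) (q : P ⟶ Z)
    (w : (p ≫ smul M g h) ≫ M.base = q ≫ ρ) :
    M.ev (smul M g h) p q w = (p ≫ g) *
      M.ev h p q (by rw [Category.assoc, ← smul_base M g h, ← Category.assoc, w]) := by
  rw [show M.ev (smul M g h) p q w = M.ev (M.pt _ _) p q w from rfl, M.ev_pt, comp_mul,
    M.ev_comp_left]
  simp only [pullback.lift_fst, pullback.lift_snd, pullback.lift_fst_assoc]

theorem comp_smul {T T' : 𝒞} (k : T' ⟶ T) (g : T ⟶ G) (h : T ⟶ M.obj) :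
    k ≫ smul M g h = smul M (k ≫ g) (k ≫ h) := by
  refine M.hom_ext (by rw [smul_base, Category.assoc, smul_base, Category.assoc]) fun p q w => ?_
  rw [M.ev_comp_point, ev_smul, ev_smul, M.ev_comp_point, Category.assoc]

theorem one_smul' {T : 𝒞} (h : T ⟶ M.obj) : smul M (1 : T ⟶ G) h = h := by
  refine M.hom_ext (smul_base M 1 h) fun p q w => ?_
  rw [ev_smul, comp_one, _root_.one_mul]

theorem mul_smul' {T : 𝒞} (g g' : T ⟶ G) (h : T ⟶ M.obj) :
    smul M (g * g') h = smul M g (smul M g' h) := by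
  refine M.hom_ext (by simp only [smul_base]) fun p q w => ?_
  rw [ev_smul, ev_smul, ev_smul, comp_mul, _root_.mul_assoc]

/-- The action. -/
noncomputable def actHom : G ⊗ M.obj ⟶ M.obj := smul M (fst _ _) (snd _ _)

theorem comp_actHom {T : 𝒞} (k : T ⟶ G ⊗ M.obj) :
    k ≫ actHom M = smul M (k ≫ fst _ _) (k ≫ snd _ _) := comp_smul M k _ _

theorem one_act : (η[G] ▷ M.obj) ≫ actHom M = (λ_ M.obj).hom := by
  rw [comp_actHom, whiskerRight_fst, whiskerRight_snd, leftUnitor_hom]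
  have h1 : fst (𝟙_ 𝒞) M.obj ≫ η[G] = (1 : 𝟙_ 𝒞 ⊗ M.obj ⟶ G) := by
    rw [Hom.one_def]; congr 1; exact toUnit_unique _ _
  rw [h1, one_smul']

theorem mul_act : (μ[G] ▷ M.obj) ≫ actHom M =
    (α_ G G M.obj).hom ≫ (G ◁ actHom M) ≫ actHom M := by
  rw [← Category.assoc, comp_actHom, comp_actHom]
  simp only [whiskerRight_fst, whiskerRight_snd, Category.assoc, whiskerLeft_fst,
    whiskerLeft_snd, associator_hom_fst]
  rw [show (α_ G G M.obj).hom ≫ snd G (G ⊗ M.obj) ≫ actHom M =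
      ((α_ G G M.obj).hom ≫ snd G (G ⊗ M.obj)) ≫ actHom M from (Category.assoc _ _ _).symm,
    comp_actHom, ← mul_smul']
  simp only [Category.assoc, associator_hom_snd_fst, associator_hom_snd_snd]
  congr 1
  rw [Hom.mul_def, ← comp_lift, lift_fst_snd, Category.comp_id]

/-- The cocycle of a point. -/
noncomputable def coc {T : 𝒞} (h : T ⟶ M.obj) : T ⟶ M₂.obj :=
  M₂.pt (h ≫ M.base)
    ((M.ev h (pullback.fst _ _) (pullback.snd _ _ ≫ pullback.fst ρ ρ)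
        (by rw [Category.assoc, pullback.condition, Category.assoc]))⁻¹ *
      M.ev h (pullback.fst _ _) (pullback.snd _ _ ≫ pullback.snd ρ ρ)
        (by rw [Category.assoc, pullback.condition, Category.assoc]; congr 1; exact pullback.condition))

theorem coc_base {T : 𝒞} (h : T ⟶ M.obj) : coc M M₂ h ≫ M₂.base = h ≫ M.base := M₂.pt_base _ _

theorem coc_w₁ {T P : 𝒞} (h : T ⟶ M.obj) (p : P ⟶ T) (q : P ⟶ pullback ρ ρ)
    (w : (p ≫ coc M M₂ h) ≫ M₂.base = q ≫ ρ₂ ρ) :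
    (p ≫ h) ≫ M.base = (q ≫ pullback.fst ρ ρ) ≫ ρ := by
  rw [Category.assoc, ← coc_base M M₂, ← Category.assoc, w, Category.assoc]

theorem coc_w₂ {T P : 𝒞} (h : T ⟶ M.obj) (p : P ⟶ T) (q : P ⟶ pullback ρ ρ)
    (w : (p ≫ coc M M₂ h) ≫ M₂.base = q ≫ ρ₂ ρ) :
    (p ≫ h) ≫ M.base = (q ≫ pullback.snd ρ ρ) ≫ ρ := by
  rw [coc_w₁ M M₂ h p q w, Category.assoc, Category.assoc, pullback.condition]

theorem ev_coc {T P : 𝒞} (h : T ⟶ M.obj) (p : P ⟶ T) (q : P ⟶ pullback ρ ρ)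
    (w : (p ≫ coc M M₂ h) ≫ M₂.base = q ≫ ρ₂ ρ) :
    M₂.ev (coc M M₂ h) p q w = (M.ev h p (q ≫ pullback.fst ρ ρ) (coc_w₁ M M₂ h p q w))⁻¹ *
      M.ev h p (q ≫ pullback.snd ρ ρ) (coc_w₂ M M₂ h p q w) := by
  rw [show M₂.ev (coc M M₂ h) p q w = M₂.ev (M₂.pt _ _) p q w from rfl, M₂.ev_pt, comp_mul,
    GrpObj.comp_inv, M.ev_comp_left, M.ev_comp_left]
  simp only [pullback.lift_fst, pullback.lift_snd_assoc]

theorem comp_coc {T T' : 𝒞} (k : T' ⟶ T) (h : T ⟶ M.obj) :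
    k ≫ coc M M₂ h = coc M M₂ (k ≫ h) := by
  refine M₂.hom_ext (by rw [coc_base, Category.assoc, coc_base, Category.assoc]) fun p q w => ?_
  rw [M₂.ev_comp_point, ev_coc, ev_coc, M.ev_comp_point, M.ev_comp_point]

theorem coc_smul {T : 𝒞} (g : T ⟶ G) (h : T ⟶ M.obj) : coc M M₂ (smul M g h) = coc M M₂ h := by
  refine M₂.hom_ext (by rw [coc_base, coc_base, smul_base]) fun p q w => ?_
  rw [ev_coc, ev_coc, ev_smul, ev_smul, _root_.mul_inv_rev, _root_.mul_assoc, inv_mul_cancel_left]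

theorem ρ₃_eq_snd (ρ : Z ⟶ W) :
    ρ₃ ρ = pullback.snd (pullback.snd ρ ρ) (pullback.fst ρ ρ) ≫ ρ₂ ρ := by
  have h := pullback.condition (f := pullback.snd ρ ρ) (g := pullback.fst ρ ρ)
  have h' := pullback.condition (f := ρ) (g := ρ)
  simp only [ρ₃, ρ₂]
  rw [h', ← Category.assoc, h, Category.assoc]
  rw [← h']

theorem ρ₃_eq_pr13 (ρ : Z ⟶ W) : ρ₃ ρ = pr13 ρ ≫ ρ₂ ρ := by
  simp [ρ₃, ρ₂]

/-- The product of the two short edges. -/
noncomputable def dmul : M₂.obj ⟶ M₃.obj :=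
  M₃.pt M₂.base
    (M₂.ev (𝟙 _) (pullback.fst _ _) (pullback.snd _ _ ≫ pullback.fst _ _)
        (by rw [Category.comp_id, pullback.condition]; simp only [Category.assoc]) *
      M₂.ev (𝟙 _) (pullback.fst _ _) (pullback.snd _ _ ≫ pullback.snd _ _)
        (by rw [Category.comp_id, pullback.condition, ρ₃_eq_snd, Category.assoc]))

/-- The long edge. -/
noncomputable def dlong : M₂.obj ⟶ M₃.obj :=
  M₃.pt M₂.base
    (M₂.ev (𝟙 _) (pullback.fst _ _) (pullback.snd _ _ ≫ pr13 ρ)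
      (by rw [Category.comp_id, pullback.condition, ρ₃_eq_pr13, Category.assoc]))

theorem ev_dmul {T P : 𝒞} (x : T ⟶ M₂.obj) (p : P ⟶ T) (q : P ⟶ Z₃ ρ)
    (w : (p ≫ x ≫ dmul M₂ M₃) ≫ M₃.base = q ≫ ρ₃ ρ) :
    M₃.ev (x ≫ dmul M₂ M₃) p q w =
      M₂.ev x p (q ≫ pullback.fst _ _)
          (by rw [dmul, Category.assoc, Category.assoc, M₃.pt_base] at w; simpa [ρ₃] using w) *
        M₂.ev x p (q ≫ pullback.snd _ _)
          (by rw [dmul, Category.assoc, Category.assoc, M₃.pt_base, ρ₃_eq_snd] at w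
              simpa using w) := by
  simp only [dmul]
  rw [M₃.ev_comp_point, M₃.ev_pt, comp_mul, M₂.ev_comp_left, M₂.ev_comp_left]
  simp only [pullback.lift_fst, pullback.lift_snd_assoc]
  congr 1 <;> exact M₂.ev_congr (h := 𝟙 _) (h' := x) (p := p ≫ x) (p' := p) (Category.comp_id _) rfl _

theorem ev_dlong {T P : 𝒞} (x : T ⟶ M₂.obj) (p : P ⟶ T) (q : P ⟶ Z₃ ρ)
    (w : (p ≫ x ≫ dlong M₂ M₃) ≫ M₃.base = q ≫ ρ₃ ρ) :
    M₃.ev (x ≫ dlong M₂ M₃) p q w =
      M₂.ev x p (q ≫ pr13 ρ)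
          (by rw [dlong, Category.assoc, Category.assoc, M₃.pt_base, ρ₃_eq_pr13] at w
              simpa using w) := by
  simp only [dlong]
  rw [M₃.ev_comp_point, M₃.ev_pt, M₂.ev_comp_left]
  simp only [pullback.lift_fst, pullback.lift_snd_assoc]
  exact M₂.ev_congr (h := 𝟙 _) (h' := x) (p := p ≫ x) (p' := p) (Category.comp_id _) rfl _

variable [HasEqualizers 𝒞]

/-- The object of cocycles. -/
noncomputable abbrev W₀ : 𝒞 := equalizer (dmul M₂ M₃) (dlong M₂ M₃)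

/-- The inclusion of cocycles. -/
noncomputable abbrev ι₀ : W₀ M₂ M₃ ⟶ M₂.obj := equalizer.ι _ _

/-- The cocycle identity. -/
theorem cocycle {T P : 𝒞} (k : T ⟶ W₀ M₂ M₃) (p : P ⟶ T) (q₁ q₂ q₃ : P ⟶ Z)
    (h₁₂ : q₁ ≫ ρ = q₂ ≫ ρ) (h₂₃ : q₂ ≫ ρ = q₃ ≫ ρ)
    (w : (p ≫ k ≫ ι₀ M₂ M₃) ≫ M₂.base = q₁ ≫ ρ) :
    M₂.ev (k ≫ ι₀ M₂ M₃) p (pullback.lift q₁ q₂ h₁₂)
        (by rw [w, ρ₂, pullback.lift_fst_assoc]) *
      M₂.ev (k ≫ ι₀ M₂ M₃) p (pullback.lift q₂ q₃ h₂₃)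
        (by rw [w, ρ₂, pullback.lift_fst_assoc, h₁₂]) =
      M₂.ev (k ≫ ι₀ M₂ M₃) p (pullback.lift q₁ q₃ (h₁₂.trans h₂₃))
        (by rw [w, ρ₂, pullback.lift_fst_assoc]) := by
  let q : P ⟶ Z₃ ρ := pullback.lift (pullback.lift q₁ q₂ h₁₂) (pullback.lift q₂ q₃ h₂₃)
    (by rw [pullback.lift_snd, pullback.lift_fst])
  have hq : (p ≫ k ≫ ι₀ M₂ M₃) ≫ M₂.base = q ≫ ρ₃ ρ := by
    rw [w]
    simp [q]
  have key : M₃.ev ((k ≫ ι₀ M₂ M₃) ≫ dmul M₂ M₃) p q (by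
        rw [dmul, Category.assoc, Category.assoc, M₃.pt_base]
        simpa using hq) =
      M₃.ev ((k ≫ ι₀ M₂ M₃) ≫ dlong M₂ M₃) p q (by
        rw [dlong, Category.assoc, Category.assoc, M₃.pt_base]
        simpa using hq) :=
    M₃.ev_congr (by rw [Category.assoc k, Category.assoc k, equalizer.condition]) rfl _
  rw [ev_dmul, ev_dlong] at key
  have e12 : q ≫ pullback.fst (pullback.snd ρ ρ) (pullback.fst ρ ρ) = pullback.lift q₁ q₂ h₁₂ :=
    pullback.lift_fst _ _ _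
  have e23 : q ≫ pullback.snd (pullback.snd ρ ρ) (pullback.fst ρ ρ) = pullback.lift q₂ q₃ h₂₃ :=
    pullback.lift_snd _ _ _
  have e13 : q ≫ pr13 ρ = pullback.lift q₁ q₃ (h₁₂.trans h₂₃) := by
    apply pullback.hom_ext <;> simp [pr13, reassoc_of% e12, reassoc_of% e23]
  simp only [e12, e23, e13] at key
  exact key

theorem coc_mem : coc M M₂ (𝟙 _) ≫ dmul M₂ M₃ = coc M M₂ (𝟙 _) ≫ dlong M₂ M₃ := by
  refine M₃.hom_ext (by simp only [Category.assoc, dmul, dlong, M₃.pt_base]) fun p q w => ?_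
  rw [ev_dmul, ev_dlong]
  simp only [ev_coc, Category.assoc, pullback.lift_fst, pullback.lift_snd]
  have hmid : q ≫ pullback.snd (pullback.snd ρ ρ) (pullback.fst ρ ρ) ≫ pullback.fst ρ ρ =
      q ≫ pullback.fst (pullback.snd ρ ρ) (pullback.fst ρ ρ) ≫ pullback.snd ρ ρ := by
    rw [← pullback.condition]
  simp only [hmid]
  rw [_root_.mul_assoc, mul_inv_cancel_left]

/-- The map to cocycles. -/
noncomputable def toW₀ : M.obj ⟶ W₀ M₂ M₃ := equalizer.lift _ (coc_mem M M₂ M₃)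

theorem toW₀_ι : toW₀ M M₂ M₃ ≫ ι₀ M₂ M₃ = coc M M₂ (𝟙 _) := equalizer.lift_ι _ _

theorem actHom_toW₀ : actHom M ≫ toW₀ M M₂ M₃ = snd G M.obj ≫ toW₀ M M₂ M₃ := by
  apply equalizer.hom_ext
  simp only [Category.assoc, toW₀_ι, comp_coc, Category.comp_id]
  exact coc_smul M M₂ _ _

variable [∀ {T : 𝒞} (a : T ⟶ W), EffectiveEpi (pullback.fst a ρ)]

include M₂ in
/-- Points with equal cocycles differ by a unique translation. -/
theorem existsUnique_smul {T : 𝒞} (h h' : T ⟶ M.obj) (e : coc M M₂ h' = coc M M₂ h) :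
    ∃! g : T ⟶ G, smul M g h = h' := by
  have hb : h' ≫ M.base = h ≫ M.base := by rw [← coc_base M M₂ h', e, coc_base]
  let p := pullback.fst (h ≫ M.base) ρ
  let q := pullback.snd (h ≫ M.base) ρ
  have hw : (p ≫ h) ≫ M.base = q ≫ ρ := by rw [Category.assoc, pullback.condition]
  have hw' : (p ≫ h') ≫ M.base = q ≫ ρ := by rw [Category.assoc, hb, pullback.condition]
  let d := M.ev h' p q hw' * (M.ev h p q hw)⁻¹
  have hd : ∀ {P : 𝒞} (g₁ g₂ : P ⟶ pullback (h ≫ M.base) ρ), g₁ ≫ p = g₂ ≫ p → g₁ ≫ d = g₂ ≫ d := by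
    intro P g₁ g₂ hg
    have h12 : (g₁ ≫ q) ≫ ρ = (g₂ ≫ q) ≫ ρ := by
      simp only [q, Category.assoc, ← pullback.condition]
      rw [← Category.assoc, ← Category.assoc, show g₁ ≫ pullback.fst (h ≫ M.base) ρ = _ from hg]
      simp only [Category.assoc, p]
    have w₂ : ((g₁ ≫ p) ≫ coc M M₂ h) ≫ M₂.base = pullback.lift _ _ h12 ≫ ρ₂ ρ := by
      rw [Category.assoc, coc_base, ρ₂, pullback.lift_fst_assoc]
      simp only [Category.assoc, q, p, ← pullback.condition]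
    have key := M₂.ev_congr (h := coc M M₂ h') (h' := coc M M₂ h) (p := g₁ ≫ p) (p' := g₁ ≫ p)
      (q := pullback.lift _ _ h12) (by rw [e]) rfl (by rw [e]; exact w₂)
    simp only [ev_coc, pullback.lift_fst, pullback.lift_snd] at key
    simp only [d, comp_mul, GrpObj.comp_inv, M.ev_comp_left]
    have hg2 : ∀ (k : T ⟶ M.obj) (w : ((g₂ ≫ p) ≫ k) ≫ M.base = (g₂ ≫ q) ≫ ρ),
        M.ev k (g₂ ≫ p) (g₂ ≫ q) w = M.ev k (g₁ ≫ p) (g₂ ≫ q) (by rw [hg]; exact w) :=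
      fun k w => M.ev_congr (by rw [hg]) rfl w
    rw [hg2, hg2]
    have key' := congrArg (fun t => M.ev h' (g₁ ≫ p) (g₁ ≫ q) (by
      simp only [Category.assoc] at hw' ⊢; rw [hw']) * t) key
    simp only [mul_inv_cancel_left] at key'
    rw [key']
    group
  refine ⟨EffectiveEpi.desc p d hd, ?_, fun g hg => ?_⟩
  · refine M.hom_ext (by rw [smul_base, hb]) fun r t w => ?_
    rw [ev_smul]
    have hl : (r ≫ h) ≫ M.base = t ≫ ρ := by
      rw [Category.assoc, ← smul_base M (EffectiveEpi.desc p d hd) h, ← Category.assoc, w]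
    let l := pullback.lift r t (by simpa using hl)
    have hlp : l ≫ p = r := pullback.lift_fst _ _ _
    have hlq : l ≫ q = t := pullback.lift_snd _ _ _
    have hd2 : r ≫ EffectiveEpi.desc p d hd = l ≫ d := by
      rw [← hlp, Category.assoc, EffectiveEpi.fac]
    rw [hd2]
    simp only [d, comp_mul, GrpObj.comp_inv, M.ev_comp_left]
    rw [M.ev_congr (h := h') (h' := h') (p' := r) (q' := t) (by rw [hlp]) hlq,
      M.ev_congr (h := h) (h' := h) (p' := r) (q' := t) (by rw [hlp]) hlq]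
    exact inv_mul_cancel_right _ _
  · rw [← cancel_epi p, EffectiveEpi.fac]
    have hw2 : (p ≫ smul M g h) ≫ M.base = q ≫ ρ := by rw [Category.assoc, smul_base, ← Category.assoc, hw]
    have h2 := ev_smul M g h p q hw2
    rw [M.ev_congr (h' := h') (p' := p) (by rw [hg]) rfl] at h2
    simp only [d]
    rw [h2, mul_inv_cancel_right]

/-- The action square is cartesian. -/
theorem isPullback_act :
    IsPullback (actHom M) (snd G M.obj) (toW₀ M M₂ M₃) (toW₀ M M₂ M₃) := by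
  have key : ∀ s : PullbackCone (toW₀ M M₂ M₃) (toW₀ M M₂ M₃),
      ∃! g : s.pt ⟶ G, smul M g s.snd = s.fst := fun s => by
    refine existsUnique_smul M M₂ s.snd s.fst ?_
    have h := congrArg (· ≫ ι₀ M₂ M₃) s.condition
    simpa [toW₀_ι, comp_coc] using h
  refine ⟨⟨actHom_toW₀ M M₂ M₃⟩, ⟨PullbackCone.IsLimit.mk _
    (fun s => lift (key s).exists.choose s.snd) (fun s => ?_) (fun s => lift_snd _ _) fun s m h1 h2 => ?_⟩⟩
  · rw [comp_actHom, lift_fst, lift_snd]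
    exact (key s).exists.choose_spec
  · apply CartesianMonoidalCategory.hom_ext
    · rw [lift_fst]
      refine (key s).unique ?_ (key s).exists.choose_spec
      rw [comp_actHom] at h1
      simpa [h2] using h1
    · rw [lift_snd, h2]

/-- The cover of cocycles over which the torsor has a section. -/
noncomputable abbrev trivCover : pullback (ι₀ M₂ M₃ ≫ M₂.base) ρ ⟶ W₀ M₂ M₃ := pullback.fst _ _

theorem trivCover_w :
    (trivCover M₂ M₃ ≫ ι₀ M₂ M₃) ≫ M₂.base = pullback.snd (ι₀ M₂ M₃ ≫ M₂.base) ρ ≫ ρ := by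
  rw [Category.assoc]
  exact pullback.condition

/-- The point over the cover with values the cocycle at the chosen element. -/
noncomputable def sect : pullback (ι₀ M₂ M₃ ≫ M₂.base) ρ ⟶ M.obj :=
  M.pt ((trivCover M₂ M₃ ≫ ι₀ M₂ M₃) ≫ M₂.base)
    (M₂.ev (trivCover M₂ M₃ ≫ ι₀ M₂ M₃) (pullback.fst _ _)
      (pullback.lift (pullback.fst _ _ ≫ pullback.snd (ι₀ M₂ M₃ ≫ M₂.base) ρ) (pullback.snd _ _)
        ((Category.assoc _ _ _).trans ((congrArg _ (trivCover_w M₂ M₃).symm).trans pullback.condition)))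
      (by simp only [ρ₂, pullback.lift_fst_assoc, Category.assoc, ← trivCover_w]))

theorem sect_base : sect M M₂ M₃ ≫ M.base = (trivCover M₂ M₃ ≫ ι₀ M₂ M₃) ≫ M₂.base := M.pt_base _ _

theorem sect_w {P : 𝒞} {p : P ⟶ pullback (ι₀ M₂ M₃ ≫ M₂.base) ρ} {q : P ⟶ Z}
    (w : (p ≫ sect M M₂ M₃) ≫ M.base = q ≫ ρ) :
    (p ≫ pullback.snd (ι₀ M₂ M₃ ≫ M₂.base) ρ) ≫ ρ = q ≫ ρ := by
  rw [Category.assoc, sect_base, trivCover_w] at w
  rw [Category.assoc, w]

theorem ev_sect {P : 𝒞} (p : P ⟶ pullback (ι₀ M₂ M₃ ≫ M₂.base) ρ) (q : P ⟶ Z)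
    (w : (p ≫ sect M M₂ M₃) ≫ M.base = q ≫ ρ) :
    M.ev (sect M M₂ M₃) p q w =
      M₂.ev (trivCover M₂ M₃ ≫ ι₀ M₂ M₃) p
        (pullback.lift (p ≫ pullback.snd (ι₀ M₂ M₃ ≫ M₂.base) ρ) q (sect_w M M₂ M₃ w))
        (by simp only [ρ₂, pullback.lift_fst_assoc]
            rw [sect_w M M₂ M₃ w, ← w]
            simp only [Category.assoc, sect_base]) := by
  simp only [sect]
  rw [M.ev_pt, M₂.ev_comp_left]
  refine M₂.ev_congr (by rw [pullback.lift_fst]) ?_ _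
  apply pullback.hom_ext <;> simp

/-- The section over the cover. -/
theorem exists_section : ∃ σ, σ ≫ toW₀ M M₂ M₃ = trivCover M₂ M₃ := by
  refine ⟨sect M M₂ M₃, equalizer.hom_ext ?_⟩
  rw [Category.assoc, toW₀_ι, comp_coc, Category.comp_id]
  refine M₂.hom_ext (by rw [coc_base, sect_base]) fun p q w => ?_
  have w₁ := coc_w₁ M M₂ (sect M M₂ M₃) p q w
  have hs₂ : (q ≫ pullback.fst ρ ρ) ≫ ρ = (q ≫ pullback.snd ρ ρ) ≫ ρ := by
    simp only [Category.assoc, pullback.condition]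
  rw [ev_coc, ev_sect, ev_sect]
  have hc := cocycle M₂ M₃ (trivCover M₂ M₃) p (p ≫ pullback.snd (ι₀ M₂ M₃ ≫ M₂.base) ρ)
    (q ≫ pullback.fst ρ ρ) (q ≫ pullback.snd ρ ρ) (sect_w M M₂ M₃ w₁) hs₂
    (by rw [Category.assoc, trivCover_w, Category.assoc])
  rw [← hc, inv_mul_cancel_left]
  refine M₂.ev_congr rfl ?_ _
  apply pullback.hom_ext <;> simp

end Groth.Agent.H14Atlas
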