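import Groth.Agent.H14Atlas.FormallySmoothAt
import Groth.Agent.H14Atlas.Lfp
import Groth.Prelude.Def_AlgGrp

/-!
# Every point of the base lifts to a smooth point of the space of framed sections
-/

set_option autoImplicit false
set_option backward.isDefEq.respectTransparency false
set_option backward.isDefEq.respectTransparency.types false
set_option linter.style.haveILetI false
set_option maxHeartbeats 1000000
universe u

open CategoryTheory CategoryTheory.Limits AlgebraicGeometry Opposite IsLocalRing MonoidalCategory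
open scoped TensorProduct

namespace Groth.Agent.H14Atlas

attribute [local irreducible] BMap

/-- A chart of an affine flat morphism with a section over an affine open. -/
theorem exists_affine_model {S : Scheme.{u}} {R : Type u} [CommRing R]
    (ι : Spec (CommRingCat.of R) ⟶ S) (G : Over S) [IsAffineHom G.hom] [Flat G.hom]
    [LocallyOfFinitePresentation G.hom] (e : 𝟙_ (Over S) ⟶ G) :
    ∃ (A : Type u) (_ : CommRing A) (_ : Algebra R A) (j : Spec (CommRingCat.of A) ⟶ G.left),
      IsPullback j (Spec.map (CommRingCat.ofHom (algebraMap R A))) G.hom ι ∧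
        Algebra.FinitePresentation R A ∧ Module.Flat R A ∧ Nonempty (A →ₐ[R] R) := by
  haveI : IsAffineHom (pullback.snd G.hom ι) :=
    MorphismProperty.pullback_snd (P := @IsAffineHom) G.hom ι inferInstance
  haveI : IsAffine (pullback G.hom ι) := isAffine_of_isAffineHom (pullback.snd G.hom ι)
  let φ := Spec.preimage ((pullback G.hom ι).isoSpec.inv ≫ pullback.snd G.hom ι)
  letI : Algebra R Γ(pullback G.hom ι, ⊤) := φ.hom.toAlgebra
  have hφ : Spec.map (CommRingCat.ofHom (algebraMap R Γ(pullback G.hom ι, ⊤))) =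
      (pullback G.hom ι).isoSpec.inv ≫ pullback.snd G.hom ι := Spec.map_preimage _
  have sq : IsPullback ((pullback G.hom ι).isoSpec.inv ≫ pullback.fst G.hom ι)
      (Spec.map (CommRingCat.ofHom (algebraMap R Γ(pullback G.hom ι, ⊤)))) G.hom ι :=
    (IsPullback.of_hasPullback G.hom ι).of_iso (pullback G.hom ι).isoSpec (Iso.refl _) (Iso.refl _)
      (Iso.refl _) (by simp) (by simp [hφ]) (by simp) (by simp)
  refine ⟨Γ(pullback G.hom ι, ⊤), inferInstance, inferInstance, _, sq, ?_, ?_, ?_⟩
  · have h : LocallyOfFinitePresentation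
        (Spec.map (CommRingCat.ofHom (algebraMap R Γ(pullback G.hom ι, ⊤)))) :=
      MorphismProperty.of_isPullback sq inferInstance
    rw [HasRingHomProperty.Spec_iff (P := @LocallyOfFinitePresentation)] at h
    exact RingHom.finitePresentation_algebraMap.1 h
  · have h : Flat (Spec.map (CommRingCat.ofHom (algebraMap R Γ(pullback G.hom ι, ⊤)))) :=
      MorphismProperty.of_isPullback sq inferInstance
    rw [HasRingHomProperty.Spec_iff (P := @Flat)] at h
    exact RingHom.flat_algebraMap_iff.1 h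
  · obtain ⟨θ, hθ⟩ := Spec.map_surjective (sq.lift (ι ≫ e.left) (𝟙 _) (by
      rw [Category.assoc, Over.w e]
      exact (Category.comp_id _).trans (Category.id_comp _).symm))
    refine ⟨{ θ.hom with commutes' := fun r => ?_ }⟩
    have h : Spec.map (CommRingCat.ofHom (algebraMap R Γ(pullback G.hom ι, ⊤)) ≫ θ) =
        Spec.map (𝟙 _) := by
      rw [Spec.map_comp, hθ, sq.lift_snd, Spec.map_id]
    exact RingHom.congr_fun (congrArg CommRingCat.Hom.hom (Spec.map_injective h)) r

/-- A nonempty affine scheme of finite type over a field has a nonempty finite closed subscheme cut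
out by a regular sequence, with a frame. -/
theorem exists_framed_slice (k F : Type u) [Field k] [CommRing F] [Nontrivial F] [Algebra k F]
    [Algebra.FiniteType k F] :
    ∃ (fs : List F) (n : ULift.{u} ℕ) (_ : Module.Basis (FrameIdx n) k (F ⧸ Ideal.ofList fs)),
      ∀ i (_ : i < fs.length) (x : F), x * fs[i] ∈ Ideal.ofList (fs.take i) →
        x ∈ Ideal.ofList (fs.take i) := by
  obtain ⟨fs, hne, hreg, hfin⟩ := H02CA.Slice.exists_regular_seq k F (RingHom.id F)
    fun x => ⟨1, isUnit_one, x, (one_mul _).symm⟩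
  rw [RingHom.coe_id, List.map_id] at hne hfin
  haveI : Nontrivial (F ⧸ Ideal.ofList fs) := Ideal.Quotient.nontrivial_iff.mpr hne
  obtain ⟨m, hm⟩ := Nat.exists_eq_succ_of_ne_zero (Module.finrank_pos (R := k) (M := F ⧸ Ideal.ofList fs)).ne'
  refine ⟨fs, ⟨m⟩, (Module.finBasisOfFinrankEq k _ hm).reindex Equiv.ulift.symm, fun i hi x hx => ?_⟩
  have h := hreg i hi x
  rw [RingHom.coe_id, List.map_id] at h
  exact h hx

variable {S : Scheme.{u}} {G : Over S}

/-- A map of a field point into the space of framed sections. -/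
theorem exists_slice_point {R A : Type u} [CommRing R] [CommRing A] [Algebra R A]
    [Algebra.FinitePresentation R A] (k : Type u) [Field k] [Algebra R k] (aug : A →ₐ[R] R) :
    ∃ (n : ULift.{u} ℕ) (_ : Algebra (FrameRing (FrameIdx n)) k)
      (_ : SMulCommClass (FrameRing (FrameIdx n)) R k) (θ : A →ₐ[R] BOf n k) (fs : List (k ⊗[R] A)),
      Function.Surjective (extZ (Q := k) θ) ∧
        RingHom.ker (extZ (Q := k) θ) = Ideal.ofList fs ∧
        ∀ i (_ : i < fs.length) (x : k ⊗[R] A), x * fs[i] ∈ Ideal.ofList (fs.take i) →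
          x ∈ Ideal.ofList (fs.take i) := by
  let ε : k ⊗[R] A →ₐ[k] k := Algebra.TensorProduct.lift (Algebra.ofId k k)
    ((Algebra.ofId R k).comp aug) fun _ _ => Commute.all _ _
  haveI : Nontrivial (k ⊗[R] A) := ε.toRingHom.domain_nontrivial
  obtain ⟨fs, n, b, hreg⟩ := exists_framed_slice k (k ⊗[R] A)
  obtain ⟨ψ, hm, ho⟩ := exists_classify b
  letI : Algebra (FrameRing (FrameIdx n)) k := ψ.toAlgebra
  haveI := smulComm_alg (FrameRing (FrameIdx n)) R k
  obtain ⟨e, -⟩ := exists_equiv_of_law (C := k) b hm ho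
  let q : k ⊗[R] A →ₐ[k] BOf n k := e.symm.toAlgHom.comp (Ideal.Quotient.mkₐ k (Ideal.ofList fs))
  let θ : A →ₐ[R] BOf n k := (q.restrictScalars R).comp Algebra.TensorProduct.includeRight
  have hq : extZ (Q := k) θ = q := Algebra.TensorProduct.ext (Subsingleton.elim _ _)
    (AlgHom.ext fun a => by simp [extZ, θ])
  refine ⟨n, inferInstance, inferInstance, θ, fs, ?_, ?_, hreg⟩
  · rw [hq]
    exact e.symm.surjective.comp Ideal.Quotient.mk_surjective
  · rw [hq]
    ext x
    rw [RingHom.mem_ker]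
    show e.symm (Ideal.Quotient.mk _ x) = 0 ↔ _
    rw [map_eq_zero_iff _ e.symm.injective, Ideal.Quotient.eq_zero_iff_mem]

section Core

variable {R : Type u} [CommRing R] {A : Type u} [CommRing A] [Algebra R A]
  (n : ULift.{u} ℕ) {Q k : Type u} [CommRing Q] [IsLocalRing Q] [Algebra R Q]
  [Algebra (FrameRing (FrameIdx n)) Q] [SMulCommClass (FrameRing (FrameIdx n)) R Q] [Field k]
  [Algebra R k] [Algebra (FrameRing (FrameIdx n)) k] [SMulCommClass (FrameRing (FrameIdx n)) R k]
  [Algebra Q k] [IsScalarTower R Q k] [IsScalarTower (FrameRing (FrameIdx n)) Q k]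

/-- The hypotheses of lifting are checked on the residue field. -/
theorem slice_conditions (hk : Function.Surjective (algebraMap Q k)) (z : A →ₐ[R] BOf n Q)
    (fk : List (k ⊗[R] A))
    (h1 : Function.Surjective (extZ (Q := k) ((BMap (R := R) n Q k).comp z)))
    (h2 : RingHom.ker (extZ (Q := k) ((BMap (R := R) n Q k).comp z)) = Ideal.ofList fk)
    (h3 : ∀ i (_ : i < fk.length) (x : k ⊗[R] A), x * fk[i] ∈ Ideal.ofList (fk.take i) →
      x ∈ Ideal.ofList (fk.take i)) :
    ∃ fs : List (Q ⊗[R] A),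
      (∀ b, ∃ a : Q ⊗[R] A, extZ z a - b ∈ (maximalIdeal Q).map (algebraMap Q (BOf n Q))) ∧
      (∀ f ∈ fs, extZ z f ∈ (maximalIdeal Q).map (algebraMap Q (BOf n Q))) ∧
      (∀ a : Q ⊗[R] A, extZ z a ∈ (maximalIdeal Q).map (algebraMap Q (BOf n Q)) →
        a ∈ (maximalIdeal Q).map (algebraMap Q (Q ⊗[R] A)) ⊔ Ideal.ofList fs) ∧
      ∀ i (_ : i < fs.length) (x : Q ⊗[R] A),
        x * fs[i] ∈ (maximalIdeal Q).map (algebraMap Q (Q ⊗[R] A)) ⊔ Ideal.ofList (fs.take i) →
          x ∈ (maximalIdeal Q).map (algebraMap Q (Q ⊗[R] A)) ⊔ Ideal.ofList (fs.take i) := by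
  let χ := Algebra.TensorProduct.map (IsScalarTower.toAlgHom R Q k) (AlgHom.id R A)
  let β := BMap (R := R) n Q k
  have hmax : RingHom.ker (algebraMap Q k) = maximalIdeal Q :=
    eq_maximalIdeal (RingHom.ker_isMaximal_of_surjective _ hk)
  have hχ : Function.Surjective χ := Algebra.TensorProduct.map_surjective _ _ hk fun x => ⟨x, rfl⟩
  have hχk : RingHom.ker χ = (maximalIdeal Q).map (algebraMap Q (Q ⊗[R] A)) := by
    refine (Algebra.TensorProduct.rTensor_ker (R := R) (S := R) (C := A)
      (IsScalarTower.toAlgHom R Q k) hk).trans ?_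
    rw [show RingHom.ker (IsScalarTower.toAlgHom R Q k) = maximalIdeal Q from hmax]
    rfl
  have hβk : ∀ x, β x = 0 ↔ x ∈ (maximalIdeal Q).map (algebraMap Q (BOf n Q)) := by
    intro x
    have h := Algebra.TensorProduct.rTensor_ker (R := FrameRing (FrameIdx n))
      (S := FrameRing (FrameIdx n)) (C := FrameAlg (FrameIdx n))
      (IsScalarTower.toAlgHom (FrameRing (FrameIdx n)) Q k) hk
    rw [show RingHom.ker (IsScalarTower.toAlgHom (FrameRing (FrameIdx n)) Q k) = maximalIdeal Q from hmax] at h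
    have e : β x = Algebra.TensorProduct.map (IsScalarTower.toAlgHom (FrameRing (FrameIdx n)) Q k)
        (AlgHom.id (FrameRing (FrameIdx n)) (FrameAlg (FrameIdx n))) x := by
      induction x using TensorProduct.induction_on with
      | zero => rw [map_zero, map_zero]
      | add a b ha hb => rw [map_add, map_add, ha, hb]
      | tmul q a => rw [BMap_tmul]; rfl
    rw [e, ← RingHom.mem_ker, h]
    rfl
  have hkey : ∀ a, β (extZ z a) = extZ (Q := k) (β.comp z) (χ a) := BMap_extZ n z
  choose sec hsec using hχ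
  let fs := fk.map sec
  have hmap : ∀ i, (Ideal.ofList (fs.take i)).map χ = Ideal.ofList (fk.take i) := fun i => by
    rw [map_ofList', ← List.map_take, List.map_map]
    exact congrArg Ideal.ofList ((List.map_congr_left (g := id) fun x _ => hsec x).trans (List.map_id _))
  have hsur : Function.Surjective χ := fun x => ⟨_, hsec x⟩
  have hmem : ∀ i y, χ y ∈ Ideal.ofList (fk.take i) ↔
      y ∈ (maximalIdeal Q).map (algebraMap Q (Q ⊗[R] A)) ⊔ Ideal.ofList (fs.take i) := fun i y => by
    rw [← hmap, ← Ideal.mem_comap, Ideal.comap_map_of_surjective χ hsur, ← RingHom.ker_eq_comap_bot,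
      hχk, sup_comm]
  refine ⟨fs, fun b => ?_, fun f hf => ?_, fun a ha => ?_, fun i hi x hx => ?_⟩
  · obtain ⟨y, hy⟩ := h1 (β b)
    obtain ⟨a, rfl⟩ := hsur y
    exact ⟨a, (hβk _).1 (by rw [map_sub, hkey, hy, sub_self])⟩
  · obtain ⟨g, hg, rfl⟩ := List.mem_map.1 hf
    refine (hβk _).1 ?_
    rw [hkey, hsec]
    exact RingHom.mem_ker.1 (h2.symm.le (Ideal.subset_span hg))
  · have h := hkey a
    rw [(hβk _).2 ha] at h
    have h' := (hmem fk.length a).1 (by rw [List.take_length]; exact h2.le (RingHom.mem_ker.2 h.symm))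
    rwa [List.take_of_length_le (by simp [fs])] at h'
  · have hi' : i < fk.length := by simpa [fs] using hi
    refine (hmem i x).1 (h3 i hi' _ ?_)
    have h := (hmem i _).2 hx
    rwa [map_mul, List.getElem_map, hsec] at h

end Core

variable [GrpObj G] [IsAffineHom G.hom] [Flat G.hom] [LocallyOfFinitePresentation G.hom]

/-- Every point of the base lifts to a smooth point. -/
theorem exists_smooth_point (M : Res (frameRho S) G) [LocallyOfFinitePresentation M.obj.hom] (s : S) :
    ∃ m ∈ M.obj.hom.smoothLocus, M.obj.hom m = s := by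
  obtain ⟨_, ⟨U, hU : IsAffineOpen U, rfl⟩, hsU, -⟩ :=
    S.isBasis_affineOpens.exists_subset_of_mem_open (show s ∈ (⊤ : S.Opens) from trivial) isOpen_univ
  let R := Γ(S, U)
  let ι : Spec (CommRingCat.of R) ⟶ S := hU.fromSpec
  haveI : IsOpenImmersion ι := inferInstanceAs (IsOpenImmersion hU.fromSpec)
  obtain ⟨A, _, _, j, sq, _, _, ⟨aug⟩⟩ := exists_affine_model ι G (MonObj.one : 𝟙_ (Over S) ⟶ G)
  let p := (hU.primeIdealOf ⟨s, hsU⟩).asIdeal
  let k := p.ResidueField
  obtain ⟨n, _, _, θk, fk, h1, h2, h3⟩ := exists_slice_point (R := R) k aug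
  let hk := pointOf ι n k sq M θk
  let pt : Spec (CommRingCat.of k) := ⟨⊥, Ideal.isPrime_bot⟩
  let m : M.obj.left := hk.left pt
  have hms : M.obj.hom m = s := by
    rw [← Scheme.Hom.comp_apply, Over.w hk]
    show ι (PrimeSpectrum.comap (algebraMap R k) pt) = s
    rw [show PrimeSpectrum.comap (algebraMap R k) pt = hU.primeIdealOf ⟨s, hsU⟩ from
      PrimeSpectrum.ext (by
        ext r
        show algebraMap R k r ∈ (⊥ : Ideal k) ↔ _
        rw [Ideal.mem_bot, Ideal.algebraMap_residueField_eq_zero])]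
    exact hU.fromSpec_primeIdealOf _
  let σ := Sigma.ι (fun d => Spec (CommRingCat.of (FrameRing (FrameIdx d)))) n
  let coordM := M.base.left ≫ frameCoord S
  have hmσ : coordM m ∈ Set.range σ := by
    refine ⟨Spec.map (CommRingCat.ofHom (algebraMap (FrameRing (FrameIdx n)) k)) pt, ?_⟩
    have h := pointOf_coord ι n k sq M θk
    rw [Over.comp_left, Category.assoc] at h
    exact (congrArg (fun t : Spec (CommRingCat.of k) ⟶ frameBase.{u} => t pt) h).symm
  obtain ⟨_, ⟨V, hV : IsAffineOpen V, rfl⟩, hmV, hVle⟩ :=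
    M.obj.left.isBasis_affineOpens.exists_subset_of_mem_open
      (show m ∈ (M.obj.hom ⁻¹ᵁ U) ⊓ (coordM ⁻¹ᵁ σ.opensRange) from ⟨show M.obj.hom m ∈ U by rw [hms]; exact hsU, hmσ⟩)
      ((M.obj.hom ⁻¹ᵁ U) ⊓ (coordM ⁻¹ᵁ σ.opensRange)).isOpen
  have hVU : V ≤ M.obj.hom ⁻¹ᵁ U := fun x hx => (hVle hx).1
  let Q₀ := Γ(M.obj.left, V)
  letI : Algebra R Q₀ := (M.obj.hom.appLE U V hVU).hom.toAlgebra
  let v : Spec (CommRingCat.of Q₀) ⟶ M.obj.left := hV.fromSpec
  haveI : IsOpenImmersion v := inferInstanceAs (IsOpenImmersion hV.fromSpec)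
  have hvR : v ≫ M.obj.hom = Spec.map (CommRingCat.ofHom (algebraMap R Q₀)) ≫ ι :=
    (IsAffineOpen.SpecMap_appLE_fromSpec M.obj.hom hU hV hVU).symm
  have hvσ : Set.range (v ≫ coordM) ⊆ Set.range σ := by
    rintro _ ⟨x, rfl⟩
    exact (hVle (show v x ∈ V from hV.range_fromSpec.subset ⟨x, rfl⟩)).2
  obtain ⟨g, hg⟩ := Spec.map_surjective (IsOpenImmersion.lift σ (v ≫ coordM) hvσ)
  letI : Algebra (FrameRing (FrameIdx n)) Q₀ := g.hom.toAlgebra
  haveI := smulComm_alg (FrameRing (FrameIdx n)) R Q₀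
  have hgσ : v ≫ coordM =
      Spec.map (CommRingCat.ofHom (algebraMap (FrameRing (FrameIdx n)) Q₀)) ≫ σ := by
    rw [show CommRingCat.ofHom (algebraMap (FrameRing (FrameIdx n)) Q₀) = g from rfl, hg,
      IsOpenImmersion.lift_fac]
  let h₀ : testObj ι Q₀ ⟶ M.obj := Over.homMk v hvR
  obtain ⟨θ₀, hθ₀⟩ := exists_pointOf ι n Q₀ sq M h₀ (by
    rw [Over.comp_left, Category.assoc]; exact hgσ)
  have hv : (pointOf ι n Q₀ sq M θ₀).left = v := congrArg (fun t => t.left) hθ₀
  let 𝔮 := (hV.primeIdealOf ⟨m, hmV⟩).asIdeal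
  -- the point over the field factors through the chart
  have hkrange : Set.range hk.left ⊆ Set.range v := by
    rintro _ ⟨x, rfl⟩
    obtain rfl : x = pt := @Subsingleton.elim (PrimeSpectrum k) inferInstance _ _
    show _ ∈ Set.range hV.fromSpec
    rw [hV.range_fromSpec]
    exact hmV
  obtain ⟨c, hc⟩ := Spec.map_surjective (IsOpenImmersion.lift v hk.left hkrange)
  letI : Algebra Q₀ k := c.hom.toAlgebra
  have hcv : Spec.map (CommRingCat.ofHom (algebraMap Q₀ k)) ≫ v = hk.left := by
    rw [show CommRingCat.ofHom (algebraMap Q₀ k) = c from rfl, hc, IsOpenImmersion.lift_fac]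
  haveI : IsScalarTower R Q₀ k := IsScalarTower.of_algebraMap_eq' (congrArg CommRingCat.Hom.hom
    (Spec.map_injective ((cancel_mono ι).1 (show Spec.map (CommRingCat.ofHom (algebraMap R k)) ≫ ι =
        Spec.map (CommRingCat.ofHom (algebraMap R Q₀) ≫ CommRingCat.ofHom (algebraMap Q₀ k)) ≫ ι by
      rw [Spec.map_comp_assoc, ← hvR, reassoc_of% hcv]
      exact (Over.w hk).symm))))
  haveI : IsScalarTower (FrameRing (FrameIdx n)) Q₀ k := IsScalarTower.of_algebraMap_eq'
    (congrArg CommRingCat.Hom.hom (Spec.map_injective ((cancel_mono σ).1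
      (show Spec.map (CommRingCat.ofHom (algebraMap (FrameRing (FrameIdx n)) k)) ≫ σ =
        Spec.map (CommRingCat.ofHom (algebraMap (FrameRing (FrameIdx n)) Q₀) ≫
          CommRingCat.ofHom (algebraMap Q₀ k)) ≫ σ by
        rw [Spec.map_comp_assoc, ← hgσ, reassoc_of% hcv]
        have h := pointOf_coord ι n k sq M θk
        rw [Over.comp_left, Category.assoc] at h
        exact h.symm))))
  have hc𝔮 : RingHom.ker (algebraMap Q₀ k) = 𝔮 := by
    have h : Spec.map (CommRingCat.ofHom (algebraMap Q₀ k)) pt = hV.primeIdealOf ⟨m, hmV⟩ := by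
      refine v.isOpenEmbedding.injective ?_
      rw [← Scheme.Hom.comp_apply, hcv]
      exact (hV.fromSpec_primeIdealOf ⟨m, hmV⟩).symm
    have h2 : RingHom.ker (algebraMap Q₀ k) =
        (Spec.map (CommRingCat.ofHom (algebraMap Q₀ k)) pt).asIdeal := rfl
    rw [h2, h]
  let Q := Localization.AtPrime 𝔮
  haveI := smulComm_alg (FrameRing (FrameIdx n)) R Q
  have hu : ∀ t : 𝔮.primeCompl, IsUnit (algebraMap Q₀ k t) := fun t =>
    isUnit_iff_ne_zero.2 fun h0 => t.2 (hc𝔮.le (RingHom.mem_ker.2 h0))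
  letI : Algebra Q k := (IsLocalization.lift (S := Q) hu).toAlgebra
  haveI : IsScalarTower Q₀ Q k := IsScalarTower.of_algebraMap_eq fun x => (IsLocalization.lift_eq hu x).symm
  haveI : IsScalarTower R Q k := IsScalarTower.of_algebraMap_eq fun r => by
    rw [IsScalarTower.algebraMap_apply R Q₀ k, IsScalarTower.algebraMap_apply R Q₀ Q,
      ← IsScalarTower.algebraMap_apply Q₀ Q k]
  haveI : IsScalarTower (FrameRing (FrameIdx n)) Q k := IsScalarTower.of_algebraMap_eq fun r => by
    rw [IsScalarTower.algebraMap_apply (FrameRing (FrameIdx n)) Q₀ k,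
      IsScalarTower.algebraMap_apply (FrameRing (FrameIdx n)) Q₀ Q,
      ← IsScalarTower.algebraMap_apply Q₀ Q k]
  have hker : RingHom.ker (algebraMap Q k) ≤ maximalIdeal Q := le_maximalIdeal (RingHom.ker_ne_top _)
  have hsurj : Function.Surjective (algebraMap Q k) := by
    intro x
    obtain ⟨a, b, hb, rfl⟩ := IsFractionRing.div_surjective (A := R ⧸ p) x
    obtain ⟨a, rfl⟩ := Ideal.Quotient.mk_surjective a
    obtain ⟨b, rfl⟩ := Ideal.Quotient.mk_surjective b
    have hbk : algebraMap R k b ≠ 0 := by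
      intro h0
      apply nonZeroDivisors.ne_zero hb
      rw [Ideal.Quotient.eq_zero_iff_mem]
      rwa [Ideal.algebraMap_residueField_eq_zero] at h0
    have hbu : IsUnit (algebraMap R Q b) := by
      by_contra h
      apply hbk
      rw [IsScalarTower.algebraMap_apply R Q k]
      have hmem : algebraMap R Q b ∈ maximalIdeal Q := h
      obtain ⟨y, t, hyt⟩ := IsLocalization.exists_mk'_eq 𝔮.primeCompl (algebraMap R Q b)
      rw [← hyt, IsLocalization.AtPrime.mk'_mem_maximal_iff Q 𝔮] at hmem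
      have h0 : algebraMap Q₀ k y = 0 := RingHom.mem_ker.1 (hc𝔮.ge hmem)
      have h5 : algebraMap Q k (IsLocalization.mk' Q y t) * algebraMap Q₀ k t = algebraMap Q₀ k y := by
        rw [IsScalarTower.algebraMap_apply Q₀ Q k, IsScalarTower.algebraMap_apply Q₀ Q k, ← map_mul,
          IsLocalization.mk'_spec]
      rw [h0] at h5
      rw [← hyt]
      exact (mul_eq_zero.1 h5).resolve_right (hu t).ne_zero
    refine ⟨algebraMap R Q a * hbu.unit⁻¹.val, ?_⟩
    rw [map_mul, ← IsScalarTower.algebraMap_apply, eq_div_iff]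
    · rw [mul_assoc, show algebraMap (R ⧸ p) k (Ideal.Quotient.mk p b) = algebraMap R k b from rfl,
        IsScalarTower.algebraMap_apply R Q k b, ← map_mul, hbu.val_inv_mul, map_one, mul_one]
      rfl
    · exact hbk
  have hθk : (BMap (R := R) n Q k).comp ((BMap (R := R) n Q₀ Q).comp θ₀) = θk := by
    refine pointOf_injective ι n k sq M ?_
    rw [← testMap_pointOf, ← testMap_pointOf, hθ₀]
    refine Over.OverMorphism.ext ?_
    show Spec.map (CommRingCat.ofHom (algebraMap Q k)) ≫
      Spec.map (CommRingCat.ofHom (algebraMap Q₀ Q)) ≫ v = hk.left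
    rw [← Spec.map_comp_assoc, ← CommRingCat.ofHom_comp, ← IsScalarTower.algebraMap_eq, hcv]
  rw [← hθk] at h1 h2
  obtain ⟨fs, c1, c2, c3, c4⟩ := slice_conditions n hsurj _ fk h1 h2 h3
  refine ⟨m, ?_, hms⟩
  rw [Scheme.Hom.mem_smoothLocus, formallySmooth_stalkMap_iff U hU V hV hVU hmV]
  exact formallySmooth_atPrime ι n sq M v 𝔮 hv c1 fs c2 c3 c4

end Groth.Agent.H14Atlas
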