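import Groth.Agent.H06EGA9.FlatBCAtPoint
import Groth.Agent.H14Atlas.SmoothPoint
import Groth.Agent.H14Quot.Torsor

/-!
# The torsor of cocycles and its saturated smooth locus
-/

set_option autoImplicit false
set_option backward.isDefEq.respectTransparency false
set_option backward.isDefEq.respectTransparency.types false
set_option linter.style.haveILetI false
universe u

open CategoryTheory CategoryTheory.Limits AlgebraicGeometry MonoidalCategory CartesianMonoidalCategory
open AlgSt
open scoped CategoryTheory.MonObj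

namespace Groth.Agent.H14Atlas

local notation "K₀" => Scheme.fppfPrecoverage

variable {S : Scheme.{u}} {G : Over S} [GrpObj G] (M : Res (frameRho S) G)
  (M₂ : Res (ρ₂ (frameRho S)) G) (M₃ : Res (ρ₃ (frameRho S)) G)

/-- The action on framed sections. -/
noncomputable def sectAct : AlgGrp.Action G M.obj where
  act := actHom M
  one_act := one_act M
  mul_act := mul_act M

/-- The torsor over the space of cocycles. -/
noncomputable def cocTorsor : (BG K₀ G).obj where
  base := W₀ M₂ M₃
  P := M.obj
  act := sectAct M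
  π := toW₀ M M₂ M₃
  cart := isPullback_act M M₂ M₃
  loc := by
    haveI h1 : Surjective (trivCover M₂ M₃).left := pullback_fst_left_prop _ _ _ inferInstance
    refine ⟨Presieve.singleton (trivCover M₂ M₃).left, (Scheme.singleton_mem_precoverage_iff _ _).2
      ⟨h1.surj, pullback_fst_left_prop @Flat _ _ inferInstance,
        pullback_fst_left_prop @LocallyOfFinitePresentation _ _ inferInstance⟩, ?_⟩
    rintro S' f ⟨⟩
    obtain ⟨σ, hσ⟩ := exists_section M M₂ M₃
    exact ⟨σ.left, congrArg (fun k => k.left) hσ⟩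
  φ := toUnit _
  eqv := toUnit_unique _ _

variable [Flat G.hom] [LocallyOfFinitePresentation G.hom]

theorem flat_toW₀ : Flat (toW₀ M M₂ M₃).left :=
  H14Quot.torsor_prop @Flat le_rfl (cocTorsor M M₂ M₃) ‹_›

theorem lfp_toW₀ : LocallyOfFinitePresentation (toW₀ M M₂ M₃).left :=
  H14Quot.torsor_prop @LocallyOfFinitePresentation le_rfl (cocTorsor M M₂ M₃) ‹_›

variable [LocallyOfFinitePresentation M.obj.hom]

omit [GrpObj G] [Flat G.hom] [LocallyOfFinitePresentation G.hom] [LocallyOfFinitePresentation M.obj.hom] in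
theorem isPullback_fst_left (G M' : Over S) :
    IsPullback (snd G M').left (fst G M').left M'.hom G.hom := by
  have h := (isPullback_fst_snd G M').map (Over.forget S)
  have e : ∀ Y : Over S, (Over.forget S).map (toUnit Y) = Y.hom := fun Y => by
    have := Over.w (toUnit Y)
    simpa using this
  rw [e, e] at h
  exact h.flip

/-- The smooth locus is saturated. -/
theorem mem_smoothLocus_of_eq {m m' : M.obj.left} (hm : m ∈ M.obj.hom.smoothLocus)
    (h : (toW₀ M M₂ M₃).left m' = (toW₀ M M₂ M₃).left m) : m' ∈ M.obj.hom.smoothLocus := by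
  have sqc : IsPullback (actHom M).left (snd G M.obj).left (toW₀ M M₂ M₃).left (toW₀ M M₂ M₃).left :=
    (isPullback_act M M₂ M₃).map (Over.forget S)
  obtain ⟨w, hw₁, hw₂⟩ := Scheme.exists_preimage_of_isPullback sqc m' m h
  have sqf := isPullback_fst_left G M.obj
  haveI : LocallyOfFinitePresentation (fst G M.obj).left := MorphismProperty.of_isPullback sqf ‹_›
  have h₁ : w ∈ (fst G M.obj).left.smoothLocus :=
    H17.LocusBC.preimage_smoothLocus_le sqf (show (snd G M.obj).left w ∈ M.obj.hom.smoothLocus by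
      rw [hw₂]; exact hm)
  let σ : G ⊗ M.obj ⟶ G ⊗ M.obj := lift (fst G M.obj) (actHom M)
  haveI : IsIso σ := by
    let σ' : G ⊗ M.obj ⟶ G ⊗ M.obj := lift (fst G M.obj) (smul M (fst G M.obj)⁻¹ (snd G M.obj))
    refine ⟨⟨σ', ?_, ?_⟩⟩
    · apply CartesianMonoidalCategory.hom_ext
      · simp [σ, σ']
      · rw [Category.assoc, lift_snd, comp_smul, GrpObj.comp_inv, lift_fst, lift_snd, actHom,
          ← mul_smul', inv_mul_cancel, one_smul', Category.id_comp]
    · apply CartesianMonoidalCategory.hom_ext
      · simp [σ, σ']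
      · rw [Category.assoc, lift_snd, comp_actHom, lift_fst, lift_snd, ← mul_smul', mul_inv_cancel,
          one_smul', Category.id_comp]
  haveI : IsIso σ.left := inferInstanceAs (IsIso ((Over.forget S).map σ))
  have hσf : σ.left ≫ (fst G M.obj).left = (fst G M.obj).left := by
    rw [← Over.comp_left, lift_fst]
  have h₂ : σ.left w ∈ (fst G M.obj).left.smoothLocus := by
    show w ∈ σ.left ⁻¹ᵁ (fst G M.obj).left.smoothLocus
    rw [Scheme.Hom.preimage_smoothLocus_eq]
    simpa only [hσf] using h₁
  have h₃ := H06EGA9.mem_smoothLocus_of_baseChange_flatAt sqf (σ.left w)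
    (Flat.stalkMap G.hom _) h₂
  have e : (snd G M.obj).left (σ.left w) = m' := by
    rw [← Scheme.Hom.comp_apply, ← Over.comp_left, lift_snd]
    exact hw₁
  exact e ▸ h₃

/-- The open image of the smooth locus. -/
noncomputable def smoothImage : (W₀ M₂ M₃).left.Opens :=
  haveI := flat_toW₀ M M₂ M₃
  haveI := lfp_toW₀ M M₂ M₃
  ⟨(toW₀ M M₂ M₃).left '' M.obj.hom.smoothLocus,
    (toW₀ M M₂ M₃).left.isOpenMap _ M.obj.hom.smoothLocus.isOpen⟩

theorem preimage_smoothImage {m : M.obj.left}
    (h : (toW₀ M M₂ M₃).left m ∈ smoothImage M M₂ M₃) : m ∈ M.obj.hom.smoothLocus := by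
  obtain ⟨m₀, hm₀, he⟩ := h
  exact mem_smoothLocus_of_eq M M₂ M₃ hm₀ he.symm

end Groth.Agent.H14Atlas
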