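import Groth.Agent.H14Atlas.Step

/-!
# The semilocal slice of a finite quotient of a flat algebra

`Q` is local, `A` is a flat finitely presented `R`-algebra and `z : A → B` a map into a finite free
`Q`-algebra which on the closed fibre is the quotient by a regular sequence.  Then `B` is the
quotient of a localisation of `Q ⊗ A` by a good sequence.
-/

set_option autoImplicit false
set_option linter.style.haveILetI false
universe u

open IsLocalRing
open scoped TensorProduct

namespace Groth.Agent.H14Atlas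

variable {R A Q B : Type u} [CommRing R] [CommRing A] [Algebra R A] [CommRing Q] [Algebra R Q]
  [CommRing B] [Algebra Q B] [Algebra R B] [IsScalarTower R Q B]

/-- The linear extension of a map to `B`. -/
noncomputable def extZ (z : A →ₐ[R] B) : Q ⊗[R] A →ₐ[Q] B :=
  Algebra.TensorProduct.lift (Algebra.ofId Q B) z fun _ _ => Commute.all _ _

theorem extZ_one_tmul (z : A →ₐ[R] B) (a : A) : extZ (Q := Q) z (1 ⊗ₜ[R] a) = z a := by
  simp [extZ]

/-- The elements becoming units in `B`. -/
noncomputable def unitsIn (z : A →ₐ[R] B) : Submonoid (Q ⊗[R] A) :=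
  (IsUnit.submonoid B).comap (extZ z).toRingHom.toMonoidHom

/-- The semilocal ring. -/
abbrev semiRing (z : A →ₐ[R] B) : Type u := Localization (unitsIn (Q := Q) z)

/-- The map from the semilocal ring to `B`. -/
noncomputable def semiMap (z : A →ₐ[R] B) : semiRing (Q := Q) z →ₐ[Q] B :=
  IsLocalization.liftAlgHom (M := unitsIn z) (f := extZ z) fun y => y.2

theorem semiMap_algebraMap (z : A →ₐ[R] B) (x : Q ⊗[R] A) :
    semiMap (Q := Q) z (algebraMap _ (semiRing (Q := Q) z) x) = extZ (Q := Q) z x := by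
  exact IsLocalization.lift_eq _ x

theorem semiMap_mk' (z : A →ₐ[R] B) (a : Q ⊗[R] A) (t : unitsIn (Q := Q) z) :
    semiMap (Q := Q) z (IsLocalization.mk' (semiRing (Q := Q) z) a t) * extZ (Q := Q) z t =
      extZ (Q := Q) z a := by
  rw [← semiMap_algebraMap, ← map_mul, IsLocalization.mk'_spec, semiMap_algebraMap]

theorem isUnit_of_semiMap (z : A →ₐ[R] B) {x : semiRing (Q := Q) z}
    (hx : IsUnit (semiMap (Q := Q) z x)) :
    IsUnit x := by
  obtain ⟨a, t, rfl⟩ := IsLocalization.exists_mk'_eq (unitsIn (Q := Q) z) x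
  have ht : IsUnit (extZ (Q := Q) z (t : Q ⊗[R] A)) := t.2
  have ha : a ∈ unitsIn (Q := Q) z :=
    show IsUnit (extZ (Q := Q) z a) from semiMap_mk' z a t ▸ hx.mul ht
  have h := (IsLocalization.map_units (semiRing (Q := Q) z) ⟨a, ha⟩ : IsUnit (algebraMap _ (semiRing (Q := Q) z) a))
  rw [← IsLocalization.mk'_spec (semiRing (Q := Q) z) a t] at h
  exact isUnit_of_mul_isUnit_left h

variable [IsLocalRing Q] [Module.Finite Q B]

theorem comap_maximal (z : A →ₐ[R] B) (hz : Function.Surjective (semiMap (Q := Q) z))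
    (P : Ideal (semiRing (Q := Q) z)) (hP : P.IsMaximal) :
    P.comap (algebraMap Q (semiRing (Q := Q) z)) = maximalIdeal Q := by
  have hk : RingHom.ker (semiMap z) ≤ P := by
    intro x hx
    by_contra hxP
    obtain ⟨c, p, hp, h1⟩ := hP.exists_inv hxP
    refine hP.ne_top (P.eq_top_of_isUnit_mem hp (isUnit_of_semiMap z ?_))
    have h2 : semiMap z (c * x + p) = 1 := by rw [h1, map_one]
    rw [map_add, map_mul, RingHom.mem_ker.1 hx, mul_zero, zero_add] at h2
    rw [h2]
    exact isUnit_one
  have hPB : (P.map (semiMap z)).IsMaximal :=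
    Ideal.IsMaximal.map_of_surjective_of_ker_le hz hk
  haveI := hPB
  have hcm : (P.map (semiMap z)).comap (semiMap z) = P := by
    rw [Ideal.comap_map_of_surjective _ hz, ← RingHom.ker_eq_comap_bot, sup_eq_left.2 hk]
  refine eq_maximalIdeal ?_
  have hi := Ideal.isMaximal_comap_of_isIntegral_of_isMaximal (R := Q) (P.map (semiMap z))
  rw [show P.comap (algebraMap Q (semiRing (Q := Q) z)) = (P.map (semiMap z)).comap (algebraMap Q B) by
    conv_lhs => rw [← hcm]
    ext q
    simp only [Ideal.mem_comap, AlgHom.commutes]]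
  exact hi

variable [Module.Free Q B] [Algebra.FinitePresentation R A] [Module.Flat R A]

/-- A finite quotient which on the closed fibre is cut out by a regular sequence is cut out by a
good sequence in the semilocal ring. -/
theorem exists_good (z : A →ₐ[R] B)
    (hz : ∀ b : B, ∃ a : Q ⊗[R] A, extZ z a - b ∈ (maximalIdeal Q).map (algebraMap Q B))
    (fs : List (Q ⊗[R] A)) (hfs : ∀ f ∈ fs, extZ z f ∈ (maximalIdeal Q).map (algebraMap Q B))
    (hker : ∀ a, extZ z a ∈ (maximalIdeal Q).map (algebraMap Q B) →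
      a ∈ (maximalIdeal Q).map (algebraMap Q (Q ⊗[R] A)) ⊔ Ideal.ofList fs)
    (hreg : ∀ i (h : i < fs.length) (x : Q ⊗[R] A),
      x * fs[i] ∈ (maximalIdeal Q).map (algebraMap Q (Q ⊗[R] A)) ⊔ Ideal.ofList (fs.take i) →
        x ∈ (maximalIdeal Q).map (algebraMap Q (Q ⊗[R] A)) ⊔ Ideal.ofList (fs.take i)) :
    Function.Surjective (semiMap (Q := Q) z) ∧
      ∃ l : List (semiRing (Q := Q) z), Good Q l ∧ RingHom.ker (semiMap z) = Ideal.ofList l := by
  classical
  set m := (maximalIdeal Q).map (algebraMap Q (Q ⊗[R] A)) with hm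
  have hmB : (maximalIdeal Q).map (algebraMap Q B) = m.map (extZ z) := by
    rw [hm, ← Ideal.map_coe (extZ z), Ideal.map_map, AlgHom.comp_algebraMap]
  have hsurj : Function.Surjective (extZ (Q := Q) z) := by
    refine LinearMap.range_eq_top.1 (top_unique (a := LinearMap.range (extZ (Q := Q) z).toLinearMap) ?_)
    refine Submodule.le_of_le_smul_of_le_jacobson_bot (Module.Finite.fg_top)
      (IsLocalRing.maximalIdeal_le_jacobson ⊥) fun b _ => ?_
    obtain ⟨a, ha⟩ := hz b
    refine Submodule.mem_sup.2 ⟨extZ z a, ⟨a, rfl⟩, -(extZ z a - b), ?_, by abel⟩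
    rw [Ideal.smul_top_eq_map]
    exact neg_mem ha
  obtain ⟨σ, hσ⟩ := Module.projective_lifting_property (extZ (Q := Q) z).toLinearMap LinearMap.id
    hsurj
  have hE : Function.Surjective (semiMap (Q := Q) z) := fun b => by
    obtain ⟨a, rfl⟩ := hsurj b
    exact ⟨algebraMap _ _ a, semiMap_algebraMap z a⟩
  -- correct the sequence into the kernel
  have hcor : ∀ f ∈ fs, ∃ g, extZ z g = 0 ∧ g - f ∈ m := by
    intro f hf
    have h := hfs f hf
    rw [hmB, Ideal.mem_map_iff_of_surjective (extZ z) hsurj] at h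
    obtain ⟨y, hy, hyf⟩ := h
    exact ⟨f - y, by rw [map_sub, hyf, sub_self], by rw [sub_sub_cancel_left]; exact neg_mem hy⟩
  let c : Q ⊗[R] A → Q ⊗[R] A := fun f => if h : f ∈ fs then (hcor f h).choose else 0
  have hc0 : ∀ f ∈ fs, extZ z (c f) = 0 := fun f hf => by
    simp only [c, dif_pos hf]; exact (hcor f hf).choose_spec.1
  have hcm : ∀ f ∈ fs, c f - f ∈ m := fun f hf => by
    simp only [c, dif_pos hf]; exact (hcor f hf).choose_spec.2
  have hsup : ∀ i, m ⊔ Ideal.ofList ((fs.map c).take i) = m ⊔ Ideal.ofList (fs.take i) := by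
    intro i
    refine le_antisymm (sup_le le_sup_left (Ideal.span_le.2 fun g hg => ?_))
      (sup_le le_sup_left (Ideal.span_le.2 fun f hf => ?_))
    · rw [Set.mem_setOf_eq, ← List.map_take, List.mem_map] at hg
      obtain ⟨f, hf, rfl⟩ := hg
      exact Submodule.mem_sup.2 ⟨c f - f, hcm f (List.mem_of_mem_take hf), f, Ideal.subset_span hf,
        sub_add_cancel _ _⟩
    · refine Submodule.mem_sup.2 ⟨-(c f - f), neg_mem (hcm f (List.mem_of_mem_take hf)), c f,
        Ideal.subset_span ?_, by ring⟩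
      show c f ∈ (fs.map c).take i
      rw [← List.map_take]
      exact List.mem_map_of_mem hf
  have hsupall : m ⊔ Ideal.ofList (fs.map c) = m ⊔ Ideal.ofList fs := by
    have h := hsup fs.length
    rwa [List.take_of_length_le (by simp), List.take_length] at h
  let l : List (semiRing (Q := Q) z) := (fs.map c).map (algebraMap _ _)
  have hmE : (maximalIdeal Q).map (algebraMap Q (semiRing (Q := Q) z)) = m.map (algebraMap _ (semiRing (Q := Q) z)) := by
    rw [hm, Ideal.map_map, ← IsScalarTower.algebraMap_eq]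
  haveI : Algebra.EssFiniteType (Q ⊗[R] A) (semiRing (Q := Q) z) :=
    Algebra.EssFiniteType.of_isLocalization _ (unitsIn (Q := Q) z)
  haveI : Algebra.EssFiniteType Q (semiRing (Q := Q) z) :=
    Algebra.EssFiniteType.comp Q (Q ⊗[R] A) _
  haveI : Module.Flat (Q ⊗[R] A) (semiRing (Q := Q) z) := IsLocalization.flat _ (unitsIn (Q := Q) z)
  haveI : Module.Flat Q (semiRing (Q := Q) z) := Module.Flat.trans Q (Q ⊗[R] A) _
  refine ⟨hE, l, good_of_fibre (comap_maximal (Q := Q) z hE) l ?_, ?_⟩
  · intro i hi x hx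
    rw [hmE] at hx ⊢
    refine reg_of_isLocalization (unitsIn (Q := Q) z) m (fs.map c) (fun j hj y hy => ?_) i hi x hx
    have hj' : j < fs.length := by simpa using hj
    rw [hsup] at hy ⊢
    refine hreg j hj' y ?_
    rw [List.getElem_map] at hy
    have h1 : y * (c fs[j] - fs[j]) ∈ m ⊔ Ideal.ofList (fs.take j) :=
      Ideal.mul_mem_left _ y (Submodule.mem_sup_left (hcm _ (List.getElem_mem hj')))
    have h2 := sub_mem hy h1
    rwa [show y * c fs[j] - y * (c fs[j] - fs[j]) = y * fs[j] by ring] at h2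
  -- the kernel
  have hl0 : Ideal.ofList l ≤ RingHom.ker (semiMap z) := by
    refine Ideal.span_le.2 fun x hx => ?_
    obtain ⟨g, hg, rfl⟩ := List.mem_map.1 hx
    obtain ⟨f, hf, rfl⟩ := List.mem_map.1 hg
    rw [SetLike.mem_coe, RingHom.mem_ker, semiMap_algebraMap, hc0 f hf]
  have hKmap : RingHom.ker (semiMap z) =
      (RingHom.ker (extZ (Q := Q) z)).map (algebraMap _ (semiRing (Q := Q) z)) := by
    refine le_antisymm (fun x hx => ?_) (Ideal.map_le_iff_le_comap.2 fun a ha => ?_)
    · obtain ⟨a, t, rfl⟩ := IsLocalization.exists_mk'_eq (unitsIn (Q := Q) z) x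
      rw [IsLocalization.mk'_mem_map_algebraMap_iff]
      refine ⟨1, one_mem _, ?_⟩
      rw [one_mul, RingHom.mem_ker, ← semiMap_mk' z a t, RingHom.mem_ker.1 hx, zero_mul]
    · rw [Ideal.mem_comap, RingHom.mem_ker, semiMap_algebraMap]
      exact RingHom.mem_ker.1 ha
  have hfg : (RingHom.ker (semiMap (Q := Q) z)).FG := by
    rw [hKmap]
    haveI : Module.FinitePresentation Q B := Module.finitePresentation_of_projective Q B
    haveI : Algebra.FinitePresentation Q B := inferInstance
    exact (Algebra.FinitePresentation.ker_fG_of_surjective (extZ z) hsurj).map _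
  refine le_antisymm ?_ hl0
  refine Submodule.le_of_le_smul_of_le_jacobson_bot (I := (maximalIdeal Q).map (algebraMap Q (semiRing (Q := Q) z)))
    hfg ?_ ?_
  · exact le_sInf fun P hP => Ideal.map_le_iff_le_comap.2 (comap_maximal z hE P hP.2).ge
  intro x hx
  obtain ⟨a, t, rfl⟩ := IsLocalization.exists_mk'_eq (unitsIn (Q := Q) z) x
  have ha : extZ z a = 0 := by rw [← semiMap_mk' z a t, RingHom.mem_ker.1 hx, zero_mul]
  have ha' := hker a (by rw [ha]; exact zero_mem _)
  rw [← hsupall, Submodule.mem_sup] at ha'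
  obtain ⟨y, hy, w, hw, rfl⟩ := ha'
  have hw0 : extZ z w = 0 := by
    have hle : Ideal.ofList (fs.map c) ≤ RingHom.ker (extZ (Q := Q) z) := Ideal.span_le.2 fun g hg => by
      obtain ⟨f, hf, rfl⟩ := List.mem_map.1 hg
      exact hc0 f hf
    exact RingHom.mem_ker.1 (hle hw)
  rw [map_add, hw0, add_zero] at ha
  -- an element of the kernel in the extended maximal ideal comes from the kernel
  have hflat : ∀ v ∈ m, algebraMap _ (semiRing (Q := Q) z) (v - σ (extZ z v)) ∈
      (maximalIdeal Q).map (algebraMap Q (semiRing (Q := Q) z)) • RingHom.ker (semiMap z) := by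
    intro v hv
    have hv' : v ∈ (maximalIdeal Q) • (⊤ : Submodule Q (Q ⊗[R] A)) := by
      rw [Ideal.smul_top_eq_map]; exact hv
    refine Submodule.smul_induction_on hv' (fun r hr n _ => ?_) ?_
    · rw [map_smul, map_smul, ← smul_sub, Algebra.smul_def, map_mul,
        ← IsScalarTower.algebraMap_apply Q (Q ⊗[R] A), ← smul_eq_mul]
      refine Submodule.smul_mem_smul (Ideal.mem_map_of_mem _ hr) ?_
      rw [RingHom.mem_ker, semiMap_algebraMap, map_sub]
      exact sub_eq_zero.2 (LinearMap.congr_fun hσ (extZ z n)).symm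
    · intro p q hp hq
      rw [map_add, map_add, add_sub_add_comm, map_add]
      exact add_mem hp hq
  have hy' := hflat y hy
  rw [ha, map_zero, sub_zero] at hy'
  rw [IsLocalization.mk'_eq_mul_mk'_one, map_add, add_mul, add_comm]
  refine Submodule.add_mem_sup (Ideal.mul_mem_right _ _ ?_) (Ideal.mul_mem_right _ _ hy')
  show algebraMap _ (semiRing (Q := Q) z) w ∈ Ideal.ofList ((fs.map c).map (algebraMap _ _))
  rw [← H02CA.Slice.ofList_map]
  exact Ideal.mem_map_of_mem _ hw

end Groth.Agent.H14Atlas
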