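import Groth.Agent.H14Atlas.Good
import Groth.Agent.H19Grp.KoszulSqZero

/-!
# Lifting a good sequence over a square-zero extension
-/

set_option autoImplicit false
set_option linter.style.haveILetI false
universe u

open RingTheory.Sequence
open scoped TensorProduct

namespace Groth.Agent.H14Atlas

section

variable {C D : Type u} [CommRing C] [CommRing D] [Algebra C D]

/-- The base change of a module along a surjection, identified through a quotient map. -/
theorem flat_tensor_of_surj (hD : Function.Surjective (algebraMap C D)) {M L : Type u}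
    [AddCommGroup M] [Module C M] [AddCommGroup L] [Module C L] [Module D L] [IsScalarTower C D L]
    [Module.Flat D L] (φ : M →ₗ[C] L) (hφ : Function.Surjective φ)
    (hker : ∀ m, φ m = 0 → m ∈ RingHom.ker (algebraMap C D) • (⊤ : Submodule C M)) :
    Module.Flat D (D ⊗[C] M) := by
  let ψ : D ⊗[C] M →ₗ[D] L := φ.liftBaseChange D
  have hψ : Function.Bijective ψ := by
    refine ⟨(injective_iff_map_eq_zero _).2 fun z hz => ?_,
      fun y => ⟨1 ⊗ₜ (hφ y).choose, by simp [ψ, (hφ y).choose_spec]⟩⟩
    obtain ⟨m, rfl⟩ := TensorProduct.mk_surjective C M D hD z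
    rw [TensorProduct.mk_apply] at hz ⊢
    simp only [ψ, LinearMap.liftBaseChange_tmul, one_smul] at hz
    refine Submodule.smul_induction_on (hker m hz) (fun r hr x _ => ?_) ?_
    · rw [TensorProduct.tmul_smul, ← algebraMap_smul D r, RingHom.mem_ker.1 hr, zero_smul]
    · intro a b ha hb
      rw [TensorProduct.tmul_add, ha, hb, add_zero]
  exact Module.Flat.of_linearEquiv (LinearEquiv.ofBijective ψ hψ)

end

variable {C D Q : Type u} [CommRing C] [CommRing D] [Algebra C D] [CommRing Q] [Algebra Q D]
  [SMulCommClass Q C D]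
variable {E E' : Type u} [CommRing E] [Algebra Q E] [CommRing E'] [Algebra C E']

/-- The composite with the quotient by an initial part. -/
noncomputable def quotMap (π : E' →ₐ[C] D ⊗[Q] E) (I : Ideal E) : E' →ₐ[C] D ⊗[Q] (E ⧸ I) :=
  ((Algebra.TensorProduct.map (AlgHom.id D D) (Ideal.Quotient.mkₐ Q I)).restrictScalars C).comp π

theorem quotMap_surjective {π : E' →ₐ[C] D ⊗[Q] E} (hπ : Function.Surjective π) (I : Ideal E) :
    Function.Surjective (quotMap π I) := by
  have h : Function.Surjective (Algebra.TensorProduct.map (AlgHom.id D D) (Ideal.Quotient.mkₐ Q I)) :=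
    Algebra.TensorProduct.map_surjective _ _ (fun x => ⟨x, rfl⟩) (Ideal.Quotient.mkₐ_surjective Q I)
  exact h.comp hπ

theorem ker_quotMap {π : E' →ₐ[C] D ⊗[Q] E} (hπ : Function.Surjective π) (I : Ideal E) (I' : Ideal E')
    (hI : I'.map π = I.map (Algebra.TensorProduct.includeRight : E →ₐ[Q] D ⊗[Q] E)) (x : E') :
    quotMap π I x = 0 ↔ x ∈ I' ⊔ RingHom.ker π := by
  have h : Algebra.TensorProduct.map (AlgHom.id D D) (Ideal.Quotient.mkₐ Q I) (π x) = 0 ↔
      π x ∈ I.map (Algebra.TensorProduct.includeRight : E →ₐ[Q] D ⊗[Q] E) := by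
    have h1 := Algebra.TensorProduct.lTensor_ker (A := D) (Ideal.Quotient.mkₐ Q I)
      Ideal.Quotient.mk_surjective
    rw [show RingHom.ker (Ideal.Quotient.mkₐ Q I) = I from Ideal.mk_ker] at h1
    rw [← h1, RingHom.mem_ker]
    rfl
  refine h.trans ?_
  rw [← hI, ← Ideal.mem_comap, Ideal.comap_map_of_surjective π hπ I']
  rfl

variable (hD : Function.Surjective (algebraMap C D))
  (hN : IsNilpotent (RingHom.ker (algebraMap C D)))
variable [Module.Flat C E'] (π : E' →ₐ[C] D ⊗[Q] E) (hπ : Function.Surjective π)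
  (hker : RingHom.ker π = (RingHom.ker (algebraMap C D)).map (algebraMap C E'))

include hD hN hπ hker in
/-- Lifting a good sequence gives flat quotients. -/
theorem flat_lift {l : List E} (hl : Good Q l) (l' : List E')
    (hll : l'.map π = l.map (Algebra.TensorProduct.includeRight : E →ₐ[Q] D ⊗[Q] E)) :
    ∀ i ≤ l.length, Module.Flat C (E' ⧸ Ideal.ofList (l'.take i)) := by
  have hlen : l'.length = l.length := by simpa using congrArg List.length hll
  have hmap : ∀ i, (Ideal.ofList (l'.take i)).map π =
      (Ideal.ofList (l.take i)).map (Algebra.TensorProduct.includeRight : E →ₐ[Q] D ⊗[Q] E) := by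
    intro i
    have h1 := H02CA.Slice.ofList_map π.toRingHom (l'.take i)
    have h2 := H02CA.Slice.ofList_map
      (Algebra.TensorProduct.includeRight : E →ₐ[Q] D ⊗[Q] E).toRingHom (l.take i)
    refine h1.trans (Eq.trans ?_ h2.symm)
    rw [List.map_take, List.map_take]
    exact congrArg (fun m => Ideal.ofList (m.take i)) hll
  have hkerC : ∀ y : E', y ∈ RingHom.ker π ↔
      y ∈ RingHom.ker (algebraMap C D) • (⊤ : Submodule C E') := by
    intro y
    rw [hker, Ideal.smul_top_eq_map]
    rfl
  intro i
  induction i with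
  | zero =>
    intro _
    exact Module.Flat.of_linearEquiv ((Submodule.quotEquivOfEqBot _
      (by simp [Ideal.ofList_nil])).restrictScalars C)
  | succ i ih =>
    intro hi
    haveI := ih (Nat.le_of_succ_le hi)
    have hi' : i < l'.length := by omega
    have hil : i < l.length := hi
    let I' := Ideal.ofList (l'.take i)
    let J' := Ideal.ofList (l'.take (i + 1))
    have hJ : J' = I' ⊔ Ideal.span {l'[i]} := by
      simp only [J', I']
      rw [List.take_succ_eq_append_getElem hi', Ideal.ofList_append, Ideal.ofList_singleton]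
    let f : (E' ⧸ I') →ₗ[C] (E' ⧸ I') := LinearMap.mulLeft C (Ideal.Quotient.mk I' l'[i])
    let g : (E' ⧸ I') →ₗ[C] (E' ⧸ J') :=
      (Ideal.Quotient.factorₐ C (show I' ≤ J' by rw [hJ]; exact le_sup_left)).toLinearMap
    have hg : Function.Surjective g := fun y => by
      obtain ⟨y, rfl⟩ := Ideal.Quotient.mk_surjective y
      exact ⟨Ideal.Quotient.mk I' y, rfl⟩
    have hfg : LinearMap.range f = LinearMap.ker g := by
      ext y
      obtain ⟨y, rfl⟩ := Ideal.Quotient.mk_surjective y
      rw [LinearMap.mem_ker, show g (Ideal.Quotient.mk I' y) = Ideal.Quotient.mk J' y from rfl,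
        Ideal.Quotient.eq_zero_iff_mem, hJ, Submodule.mem_sup]
      constructor
      · rintro ⟨z, hz⟩
        obtain ⟨z, rfl⟩ := Ideal.Quotient.mk_surjective z
        refine ⟨y - l'[i] * z, ?_, l'[i] * z, Ideal.mul_mem_right _ _ (Ideal.subset_span rfl),
          sub_add_cancel _ _⟩
        rw [← Ideal.Quotient.eq_zero_iff_mem, map_sub, map_mul, ← hz]
        exact sub_self _
      · rintro ⟨a, ha, b, hb, rfl⟩
        obtain ⟨c, rfl⟩ := Ideal.mem_span_singleton'.1 hb
        refine ⟨Ideal.Quotient.mk I' c, ?_⟩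
        show Ideal.Quotient.mk I' l'[i] * Ideal.Quotient.mk I' c = _
        rw [map_add, Ideal.Quotient.eq_zero_iff_mem.2 ha, zero_add, map_mul, mul_comm]
    have hmem : ∀ (K : Ideal E') (y : E'), y ∈ K ⊔ RingHom.ker π →
        (Ideal.Quotient.mk K y) ∈ RingHom.ker (algebraMap C D) • (⊤ : Submodule C (E' ⧸ K)) := by
      intro K y hy
      obtain ⟨a, ha, b, hb, rfl⟩ := Submodule.mem_sup.1 hy
      rw [map_add, Ideal.Quotient.eq_zero_iff_mem.2 ha, zero_add]
      have h := Submodule.mem_map_of_mem (f := (Ideal.Quotient.mkₐ C K).toLinearMap) ((hkerC b).1 hb)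
      rw [Submodule.map_smul''] at h
      exact Submodule.smul_mono le_rfl le_top h
    have hmem' : ∀ (K : Ideal E') (y : E'),
        (Ideal.Quotient.mk K y) ∈ RingHom.ker (algebraMap C D) • (⊤ : Submodule C (E' ⧸ K)) →
          y ∈ K ⊔ RingHom.ker π := by
      intro K y hy
      have hsurj : (⊤ : Submodule C E').map (Ideal.Quotient.mkₐ C K).toLinearMap = ⊤ := by
        rw [Submodule.map_top, LinearMap.range_eq_top]
        exact Ideal.Quotient.mk_surjective
      rw [← hsurj, ← Submodule.map_smul''] at hy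
      obtain ⟨b, hb, hby⟩ := hy
      refine Submodule.mem_sup.2 ⟨y - b, ?_, b, (hkerC b).2 hb, sub_add_cancel _ _⟩
      rw [← Ideal.Quotient.eq]
      exact hby.symm
    -- flatness modulo the ideal
    let φ : (E' ⧸ I') →ₗ[C] D ⊗[Q] (E ⧸ Ideal.ofList (l.take (i + 1))) :=
      (Ideal.Quotient.liftₐ I' (quotMap π (Ideal.ofList (l.take (i + 1)))) fun y hy =>
        (ker_quotMap hπ _ _ (hmap (i + 1)) y).2 (Submodule.mem_sup_left
          (show y ∈ J' by rw [hJ]; exact Submodule.mem_sup_left hy))).toLinearMap
    let φ' : ((E' ⧸ I') ⧸ LinearMap.range f) →ₗ[C] D ⊗[Q] (E ⧸ Ideal.ofList (l.take (i + 1))) :=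
      Submodule.liftQ _ φ (by
        rw [hfg]
        intro y hy
        obtain ⟨y, rfl⟩ := Ideal.Quotient.mk_surjective y
        rw [LinearMap.mem_ker, show g (Ideal.Quotient.mk I' y) = Ideal.Quotient.mk J' y from rfl,
          Ideal.Quotient.eq_zero_iff_mem] at hy
        exact (ker_quotMap hπ _ _ (hmap (i + 1)) y).2 (Submodule.mem_sup_left hy))
    haveI := hl.flat (i + 1) hi
    haveI : Module.Flat D ((D) ⊗[C] ((E' ⧸ I') ⧸ LinearMap.range f)) := by
      refine flat_tensor_of_surj hD φ' (fun y => ?_) fun y hy => ?_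
      · obtain ⟨x, hx⟩ := quotMap_surjective hπ (Ideal.ofList (l.take (i + 1))) y
        exact ⟨Submodule.Quotient.mk (Ideal.Quotient.mk I' x), hx⟩
      · obtain ⟨y, rfl⟩ := Submodule.Quotient.mk_surjective _ y
        obtain ⟨y, rfl⟩ := Ideal.Quotient.mk_surjective y
        have h := (ker_quotMap hπ _ _ (hmap (i + 1)) y).1 hy
        obtain ⟨a, ha, b, hb, rfl⟩ := Submodule.mem_sup.1 h
        have ha' : Ideal.Quotient.mk I' a ∈ LinearMap.range f := by
          rw [hfg, LinearMap.mem_ker]
          exact Ideal.Quotient.eq_zero_iff_mem.2 ha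
        rw [map_add, Submodule.Quotient.mk_add, (Submodule.Quotient.mk_eq_zero _).2 ha', zero_add]
        have h2 := Submodule.mem_map_of_mem (f := (LinearMap.range f).mkQ)
          (hmem I' b (Submodule.mem_sup_right hb))
        rw [Submodule.map_smul''] at h2
        exact Submodule.smul_mono le_rfl le_top h2
    let e : (C ⧸ RingHom.ker (algebraMap C D)) ≃+* D :=
      RingHom.quotientKerEquivOfSurjective hD
    haveI : Module.Flat (C ⧸ RingHom.ker (algebraMap C D))
        ((C ⧸ RingHom.ker (algebraMap C D)) ⊗[C] ((E' ⧸ I') ⧸ LinearMap.range f)) := by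
      letI : Algebra D (C ⧸ RingHom.ker (algebraMap C D)) := e.symm.toRingHom.toAlgebra
      haveI : IsScalarTower C D (C ⧸ RingHom.ker (algebraMap C D)) :=
        IsScalarTower.of_algebraMap_eq fun c => (e.symm_apply_eq.2 rfl).symm
      exact Module.Flat.of_linearEquiv (TensorProduct.AlgebraTensorModule.cancelBaseChange C D
        (C ⧸ RingHom.ker (algebraMap C D)) (C ⧸ RingHom.ker (algebraMap C D))
        ((E' ⧸ I') ⧸ LinearMap.range f)).symm
    haveI := H19Grp.KoszulSqZero.flat_coker (RingHom.ker (algebraMap C D)) hN f fun p hp => by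
      refine ⟨p, ?_, rfl⟩
      obtain ⟨x, rfl⟩ := Ideal.Quotient.mk_surjective p
      refine hmem I' x ((ker_quotMap hπ _ _ (hmap i) x).1 ?_)
      have h := (ker_quotMap hπ _ _ (hmap i) (l'[i] * x)).2 (hmem' I' _ (by
        rw [map_mul]; exact hp))
      rw [map_mul] at h
      -- multiplication by the regular element is injective after base change
      let u : (E ⧸ Ideal.ofList (l.take i)) →ₗ[Q] (E ⧸ Ideal.ofList (l.take i)) :=
        LinearMap.mulLeft Q (Ideal.Quotient.mk _ l[i])
      let v : (E ⧸ Ideal.ofList (l.take i)) →ₗ[Q] (E ⧸ Ideal.ofList (l.take (i + 1))) :=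
        (Ideal.Quotient.factorₐ Q (show Ideal.ofList (l.take i) ≤ Ideal.ofList (l.take (i + 1)) by
          rw [List.take_succ_eq_append_getElem hil, Ideal.ofList_append]
          exact le_sup_left)).toLinearMap
      have hu : Function.Injective u := (injective_iff_map_eq_zero u).2 fun y hy => by
        obtain ⟨y, rfl⟩ := Ideal.Quotient.mk_surjective y
        change Ideal.Quotient.mk _ l[i] * Ideal.Quotient.mk _ y = 0 at hy
        rw [← map_mul, Ideal.Quotient.eq_zero_iff_mem, mul_comm] at hy
        exact Ideal.Quotient.eq_zero_iff_mem.2 (hl.reg i hil y hy)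
      have hv : Function.Surjective v := fun y => by
        obtain ⟨y, rfl⟩ := Ideal.Quotient.mk_surjective y
        exact ⟨Ideal.Quotient.mk _ y, rfl⟩
      have huv : Function.Exact u v := by
        intro y
        obtain ⟨y, rfl⟩ := Ideal.Quotient.mk_surjective y
        rw [show v (Ideal.Quotient.mk _ y) = Ideal.Quotient.mk _ y from rfl,
          Ideal.Quotient.eq_zero_iff_mem, List.take_succ_eq_append_getElem hil, Ideal.ofList_append,
          Ideal.ofList_singleton, Submodule.mem_sup]
        constructor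
        · rintro ⟨a, ha, b, hb, rfl⟩
          obtain ⟨c, rfl⟩ := Ideal.mem_span_singleton'.1 hb
          refine ⟨Ideal.Quotient.mk _ c, ?_⟩
          show Ideal.Quotient.mk _ l[i] * Ideal.Quotient.mk _ c = _
          rw [map_add, Ideal.Quotient.eq_zero_iff_mem.2 ha, zero_add, map_mul, mul_comm]
        · rintro ⟨z, hz⟩
          obtain ⟨z, rfl⟩ := Ideal.Quotient.mk_surjective z
          refine ⟨y - l[i] * z, ?_, l[i] * z, Ideal.mul_mem_right _ _ (Ideal.subset_span rfl),
            sub_add_cancel _ _⟩
          rw [← Ideal.Quotient.eq_zero_iff_mem, map_sub, map_mul]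
          exact sub_eq_zero.2 hz.symm
      haveI := hl.flat (i + 1) hi
      have hinj := LinearMap.lTensor_injective_of_exact_of_flat v hv u hu huv D
      have hπi : π l'[i] = (1 : D) ⊗ₜ[Q] l[i] := by
        have h2 : (l'.map π)[i]'(by simpa using hi') =
            (l.map (Algebra.TensorProduct.includeRight : E →ₐ[Q] D ⊗[Q] E))[i]'(by simpa using hil) := by
          simp only [hll]
        simpa using h2
      have hfi : quotMap π (Ideal.ofList (l.take i)) l'[i] = (1 : D) ⊗ₜ[Q] Ideal.Quotient.mk _ l[i] := by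
        show Algebra.TensorProduct.map (AlgHom.id D D) _ (π l'[i]) = _
        rw [hπi]
        rfl
      have hmul : ∀ w : D ⊗[Q] (E ⧸ Ideal.ofList (l.take i)),
          u.lTensor D w = ((1 : D) ⊗ₜ[Q] Ideal.Quotient.mk _ l[i]) * w := by
        intro w
        induction w using TensorProduct.induction_on with
        | zero => simp
        | tmul d y => simp [u, Algebra.TensorProduct.tmul_mul_tmul]
        | add a b ha hb => rw [map_add, ha, hb, mul_add]
      apply hinj
      rw [map_zero, hmul, ← hfi]
      exact h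
    exact Module.Flat.of_linearEquiv
      ((Submodule.quotEquivOfEq _ _ hfg).trans (g.quotKerEquivOfSurjective hg)).symm

end Groth.Agent.H14Atlas
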